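import Cfsg.Agent.Lib.KleinBlock.Count
import Cfsg.Agent.Lib.Contrib.MajorCount
import Cfsg.Agent.Lib.Blocks.CentralRank
import Cfsg.Agent.Lib.BrauerPairs.Principal
import Mathlib

/-!
# Blocks with Klein four defect group
-/

set_option autoImplicit false

namespace Cfsg.Agent.Lib.KleinBlock

open Cfsg
open Cfsg.Agent.Lib
open Cfsg.Agent.Lib.BrauerPairs (IsPair PairLE conjPair pairStab)

universe u

variable {G : Type u} [Group G] [Finite G] {M : Ideal AlgInt} [M.IsPrime]
  {B : Set (IrrCharacter G)} {b : BrauerPairIdx G}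

theorem card_filter_ne_one {P : Subgroup G} (hV : IsKleinFour P) [Fintype P]
    [DecidablePred fun u : P => (u : G) ≠ 1] :
    ((Finset.univ : Finset P).filter (fun u : P => (u : G) ≠ 1)).card = 3 := by
  classical
  rw [show (Finset.univ : Finset P).filter (fun u : P => (u : G) ≠ 1) = Finset.univ.erase 1 by
      ext u; simp, Finset.card_erase_of_mem (Finset.mem_univ _), Finset.card_univ,
    ← Nat.card_eq_fintype_card, hV.card_four]

section

variable (hM : IsPModular 2 M) (hmax : IsMaximalBrauerPair 2 M B b.1 b.2)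
  (hV : IsKleinFour b.1)

include hM hmax hV in
theorem defect_below {a : BrauerPairIdx G} (ha : PairLE 2 M a b) :
    IsDefectGroup 2 M a.2 (b.1.subgroupOf (Subgroup.centralizer (a.1 : Set G))) := by
  have hle : b.1 ≤ Subgroup.centralizer (a.1 : Set G) :=
    BrauerPairs.le_centralizer_of_comm (comm hV) (BrauerPairs.pairLE_fst_le ha)
  have := (BrauerPairs.isDefectGroup_inf_centralizer_iff hM hmax ha).2 fun x _ =>
    (Subgroup.card_le_of_le inf_le_left).trans (le_of_eq (by rw [inf_eq_left.2 hle]))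
  rwa [inf_eq_left.2 hle] at this

include hM hmax hV in
theorem blockDefect_below {a : BrauerPairIdx G} (ha : PairLE 2 M a b) :
    blockDefect 2 a.2 = blockDefect 2 B := by
  haveI : Fact (Nat.Prime 2) := ⟨Nat.prime_two⟩
  have h2 : blockDefect 2 B = 2 := blockDefect_eq_of_card hM hmax.1.2.1
    (BrauerPairs.isDefectGroup_of_isMaximal hM hmax) hV.card_four
  rw [h2]
  refine blockDefect_eq_of_card hM (BrauerPairs.IsPair.of_pairLE hmax.1.1 ha).2
    (defect_below hM hmax hV ha) ?_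
  rw [Nat.card_congr (Subgroup.subgroupOfEquivOfLe (BrauerPairs.le_centralizer_of_comm (comm hV)
    (BrauerPairs.pairLE_fst_le ha))).toEquiv]
  exact hV.card_four

include hM hmax hV in
/-- The block has at most four characters once a major subsection has rank one. -/
theorem card_le_four {v : G} (hv : v ∈ b.1) (hv1 : v ≠ 1) {a : BrauerPairIdx G}
    (ha1 : a.1 = Subgroup.zpowers v) (ha : PairLE 2 M a b) (hl : blockRank 2 a.2 = 1) :
    Nat.card B ≤ 4 := by
  haveI : Fact (Nat.Prime 2) := ⟨Nat.prime_two⟩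
  cases nonempty_fintype G
  haveI := Fintype.ofFinite (Subgroup.centralizer (a.1 : Set G))
  have hC : Subgroup.centralizer (a.1 : Set G) = Subgroup.centralizer ({v} : Set G) := by
    rw [ha1, BrauerPairs.centralizer_zpowers]
  have h := Contrib.card_le_of_major_rank_le_two (j := 1) hM
    ((orderOf_eq_two hV hv hv1).trans (pow_one 2).symm) hC
    (Star.isInducedBlock_of_isBrauerPairOf hM (isBrauerPairOf_below hM hmax ha))
    (blockDefect_below hM hmax hV ha) (by omega)
  rwa [blockDefect_eq_of_card hM hmax.1.2.1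
    (BrauerPairs.isDefectGroup_of_isMaximal hM hmax) (d := 2) hV.card_four] at h

include hM hmax hV in
/-- With inertial index one and a central involution in the defect group the rank is one. -/
theorem rank_one_of_central (he : inertia hmax = 1) {z : G} (hz : z ∈ b.1) (hz1 : z ≠ 1)
    (hzc : z ∈ Subgroup.center G) : blockRank 2 B = 1 := by
  classical
  haveI : Fact (Nat.Prime 2) := ⟨Nat.prime_two⟩
  haveI : Fintype ↥(b.1 : Subgroup G) := Fintype.ofFinite _
  have hb : IsPair 2 M b := hmax.1.1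
  choose A hA using fun u : G => show ∃ a : BrauerPairIdx G, u ∈ b.1 →
      a.1 = Subgroup.zpowers u ∧ PairLE 2 M a b by
    by_cases hu : u ∈ b.1
    · obtain ⟨a, ha⟩ := BrauerPairs.exists_pairLE hM hb (Subgroup.zpowers_le.2 hu)
      exact ⟨a, fun _ => ha⟩
    · exact ⟨b, fun h => absurd h hu⟩
  have hcount := (card_block_eq hM hmax hV hA).1 he
  have hz' : blockRank 2 (A z).2 = blockRank 2 B := by
    refine (rank_of_top ?_ (Star.isInducedBlock_of_isBrauerPairOf hM
      (isBrauerPairOf_below hM hmax (hA z hz).2))).1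
    rw [(hA z hz).1, BrauerPairs.centralizer_zpowers, eq_top_iff]
    intro y _
    rw [Subgroup.mem_centralizer_singleton_iff]
    exact Subgroup.mem_center_iff.1 hzc y
  have hother : ∀ v ∈ b.1, v ≠ 1 → v ≠ z → blockRank 2 (A v).2 = 1 := by
    intro v hv hv1 hvz
    refine Blocks.CentralRank.blockRank_eq_one hM ?_ (BrauerPairs.IsPair.of_pairLE hb (hA v hv).2).2
      (defect_below hM hmax hV (hA v hv).2)
    intro x hx
    refine Subgroup.mem_center_iff.2 fun y => Subtype.ext ?_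
    have hyv : (y : G) * v = v * (y : G) :=
      (Subgroup.mem_centralizer_iff.1 y.2 v ((hA v hv).1.symm ▸ Subgroup.mem_zpowers v :)).symm
    have hyz : (y : G) * z = z * (y : G) := Subgroup.mem_center_iff.1 hzc y
    show (y : G) * (x : G) = (x : G) * (y : G)
    rcases eq_of_ne hV hz hv (show (x : G) ∈ b.1 from hx) hz1 hv1 hvz.symm with h | h | h | h <;>
      rw [h]
    · rw [one_mul, mul_one]
    · exact hyz
    · exact hyv
    · rw [← mul_assoc, hyz, mul_assoc, hyv, mul_assoc]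
  have hsum : ∑ u ∈ (Finset.univ : Finset ↥(b.1 : Subgroup G)).filter
      (fun u : ↥(b.1 : Subgroup G) => (u : G) ≠ 1), blockRank 2 (A (u : G)).2 =
        blockRank 2 B + 2 := by
    have hmem : (⟨z, hz⟩ : ↥(b.1 : Subgroup G)) ∈ (Finset.univ : Finset ↥(b.1 : Subgroup G)).filter
        (fun u : ↥(b.1 : Subgroup G) => (u : G) ≠ 1) := by simpa using hz1
    rw [← Finset.add_sum_erase _ _ hmem, hz', Finset.sum_congr rfl (g := fun _ => 1) fun u hu => ?_,
      Finset.sum_const, Finset.card_erase_of_mem hmem]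
    · rw [card_filter_ne_one hV, smul_eq_mul]
    · obtain ⟨hne, hu'⟩ := Finset.mem_erase.1 hu
      exact hother u u.2 (Finset.mem_filter.1 hu').2 fun h => hne (Subtype.ext h)
  obtain ⟨v, hv, hv1, hvz⟩ := exists_ne hV z
  have hle := card_le_four hM hmax hV hv hv1 (hA v hv).1 (hA v hv).2 (hother v hv hv1 hvz)
  rw [hsum] at hcount
  have := blockRank_pos (p := 2) Nat.prime_two hmax.1.2.1
  omega

include hM hmax hV in
/-- The local block at an involution of the defect group has rank one. -/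
theorem rank_local {u : G} (hu : u ∈ b.1) (hu1 : u ≠ 1) {a : BrauerPairIdx G}
    (ha1 : a.1 = Subgroup.zpowers u) (ha : PairLE 2 M a b) : blockRank 2 a.2 = 1 := by
  classical
  obtain ⟨Q, f⟩ := a
  simp only at ha1 ha ⊢
  subst ha1
  haveI : Fact (Nat.Prime 2) := ⟨Nat.prime_two⟩
  have hb : IsPair 2 M b := hmax.1.1
  have hQP : Subgroup.zpowers u ≤ b.1 := Subgroup.zpowers_le.2 hu
  have hPC : b.1 ≤ Subgroup.centralizer (Subgroup.zpowers u : Set G) :=
    BrauerPairs.le_centralizer_of_comm (comm hV) hQP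
  obtain ⟨f', hf'⟩ := BrauerPairs.LocalInertial.exists_induced hM (comm hV) hQP hb.1 hb.2
  have hn := BrauerPairs.LocalInertial.normalSubpair hM hPC hQP hb.1 hb.2 hf'
  obtain ⟨-, h⟩ := Sigma.mk.inj_iff.1 (BrauerPairs.pairLE_unique hM hb
    (a := (⟨_, f'⟩ : BrauerPairIdx G)) (c := ⟨_, f⟩) (Relation.ReflTransGen.single hn) ha rfl)
  rw [← eq_of_heq h]
  have hmax' := BrauerPairs.LocalInertial.isMaximal_sub hM hPC hQP hmax hf'
  have hV' : IsKleinFour ↥(b.1.subgroupOf (Subgroup.centralizer (Subgroup.zpowers u : Set G))) :=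
    ⟨(Nat.card_congr (Subgroup.subgroupOfEquivOfLe hPC).toEquiv).trans hV.card_four,
      (Monoid.exponent_eq_of_mulEquiv (Subgroup.subgroupOfEquivOfLe hPC)).trans hV.exponent_two⟩
  have hnil : IsNilpotentBlock 2 M f' := by
    rw [BrauerPairs.LocalInertial.isNilpotentBlock_iff hM (comm hV) hQP hmax hf']
    intro g hgC hgN hst
    refine mem_centralizer_of_fix hM hmax hV
      ((BrauerPairs.mem_pairStab_iff_stabilizesBlock hb.2).2 ⟨hgN, hst⟩) hu hu1 ?_
    rw [mul_inv_eq_iff_eq_mul]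
    exact (Subgroup.mem_centralizer_iff.1 hgC u (Subgroup.mem_zpowers u)).symm
  refine rank_one_of_central (b := ⟨_, _⟩) hM hmax' hV' ?_
    (z := (⟨u, hPC hu⟩ : Subgroup.centralizer (Subgroup.zpowers u : Set G))) hu
    (fun h => hu1 (congrArg Subtype.val h)) ?_
  · refine Subgroup.relIndex_eq_one.2 fun x hx => ?_
    rw [BrauerPairs.mem_pairStab_iff_stabilizesBlock] at hx
    exact (BrauerPairs.isNilpotentBlock_iff_of_comm hM (b := ⟨_, _⟩) hmax' (comm hV')).1 hnil x hx.1 hx.2
  · refine Subgroup.mem_center_iff.2 fun y => Subtype.ext ?_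
    exact (Subgroup.mem_centralizer_iff.1 y.2 u (Subgroup.mem_zpowers u)).symm

end

section Integral

variable [Fintype G] (hM : IsPModular 2 M) {C : Subgroup G} [Fintype C] {z : G}
  {f : Set (IrrCharacter C)}

open Contrib in
omit [Finite G] in
include hM in
theorem exists_int_contrib (hz : orderOf z = 2) (hC : C = Subgroup.centralizer ({z} : Set G))
    (hf : IsPBlock M f) (χ ψ : IrrCharacter G) :
    ∃ n : ℤ, (2 : ℂ) ^ blockDefect 2 f * contrib 2 z f χ ψ = n := by
  classical
  haveI : Fact (Nat.Prime 2) := ⟨Nat.prime_two⟩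
  obtain ⟨N, -, hN, -⟩ := exists_intMatrix hM hf
  have hs : ∀ (φ : IrrCharacter G) (η : IrrCharacter C), ∃ n : ℤ, secMult hC φ η = n := by
    intro φ η
    obtain ⟨m, hm⟩ := Chars.isCharacter_classInner_nat
      (Chars.isCharacter_restrict C (Chars.irr_isCharacter φ)) (Chars.irr_isCharacter η)
    have h1 := secScalar_pow_eq_one (p := 2) hC η (k := 1) (by
      rw [pow_one, ← hz, pow_orderOf_eq_one])
    rw [pow_one, sq_eq_one_iff] at h1
    rcases h1 with h1 | h1
    · exact ⟨m, by simp [secMult, hm, h1]⟩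
    · exact ⟨-m, by simp [secMult, hm, h1]⟩
  choose m hm using hs
  refine ⟨∑ η ∈ f.toFinset, ∑ η' ∈ f.toFinset, m χ η * m ψ η' * N η η', ?_⟩
  rw [show ((2 : ℂ)) = ((2 : ℕ) : ℂ) by norm_num, pow_mul_contrib hM hC hf hN]
  push_cast
  exact Finset.sum_congr rfl fun η _ => Finset.sum_congr rfl fun η' _ => by
    rw [hm, hm, map_intCast]

open Contrib in
omit [Finite G] in
include hM in
/-- The integral form of the contributions of a major subsection of rank one and defect two. -/
theorem exists_intForm {B : Set (IrrCharacter G)} (hz : orderOf z = 2)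
    (hC : C = Subgroup.centralizer ({z} : Set G)) (hf : IsInducedBlock M C f B)
    (hd : blockDefect 2 f = 2) (hmaj : blockDefect 2 f = blockDefect 2 B)
    (hl : blockRank 2 f = 1) [Fintype B] :
    ∃ n : IrrCharacter G → IrrCharacter G → ℤ, ∃ ψ ∈ B.toFinset,
      (∀ χ φ, (4 : ℂ) * contrib 2 z f χ φ = n χ φ) ∧ (∀ χ φ, n χ φ = n φ χ) ∧
      (∀ χ ξ, ∑ φ ∈ B.toFinset, n χ φ * n φ ξ = 4 * n χ ξ) ∧
      ∑ χ ∈ B.toFinset, n χ χ = 4 ∧ (∀ χ ∈ B.toFinset, n χ ψ ≠ 0) ∧
      (∀ χ ∈ B.toFinset, 1 ≤ n χ χ) ∧ ¬ (2 : ℤ) ∣ n ψ ψ := by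
  classical
  haveI : Fact (Nat.Prime 2) := ⟨Nat.prime_two⟩
  have hz' : orderOf z = 2 ^ 1 := by rw [pow_one]; exact hz
  obtain ⟨F, lam, -, hF, hconj, hidem, htr, hlR, hlU, hlam⟩ := exists_family hM hz' hC hf
  obtain ⟨-, hne⟩ := major_facts hM hz' hC hf hmaj hF hlR hlU hlam
  obtain ⟨ψ, hψ, h0⟩ := Blocks.exists_height_zero (p := 2) hf.2.1
  have h1 : ¬ 2 ∣ 1 := Nat.prime_two.not_dvd_one
  choose n hn using exists_int_contrib hM hz hC hf.1
  have hn4 : ∀ χ φ, (4 : ℂ) * contrib 2 z f χ φ = n χ φ := fun χ φ => by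
    rw [← hn χ φ, hd]; norm_num
  have hFn : ∀ χ φ, F χ φ 1 = n χ φ := fun χ φ => by
    rw [hF χ φ 1 h1, pow_one, ← hn χ φ, Nat.cast_ofNat]
  have hsym : ∀ χ φ, n χ φ = n φ χ := fun χ φ => by
    have := hconj χ φ 1 h1
    rw [hFn, hFn, map_intCast] at this
    exact_mod_cast this
  have hid2 : ∀ χ ξ, ∑ φ ∈ B.toFinset, n χ φ * n φ ξ = 4 * n χ ξ := fun χ ξ => by
    have := hidem χ ξ 1 h1
    simp only [hFn, hd] at this
    have h2 : ((∑ φ ∈ B.toFinset, n χ φ * n φ ξ : ℤ) : ℂ) = ((4 * n χ ξ : ℤ) : ℂ) := by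
      push_cast
      refine Eq.trans ?_ (this.trans ?_)
      · exact Finset.sum_congr (Finset.ext fun χ => by simp) fun _ _ => rfl
      · norm_num
    exact_mod_cast h2
  have hid : ∀ χ, ∑ φ ∈ B.toFinset, n χ φ ^ 2 = 4 * n χ χ := fun χ => by
    rw [← hid2 χ χ]
    exact Finset.sum_congr rfl fun φ _ => by rw [hsym φ χ, ← sq]
  have htr' : ∑ χ ∈ B.toFinset, n χ χ = 4 := by
    have := htr 1 h1
    simp only [hFn, hd, hl] at this
    have h2 : ((∑ χ ∈ B.toFinset, n χ χ : ℤ) : ℂ) = ((4 : ℤ) : ℂ) := by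
      push_cast
      refine Eq.trans ?_ (this.trans ?_)
      · exact Finset.sum_congr (Finset.ext fun χ => by simp) fun _ _ => rfl
      · norm_num
    exact_mod_cast h2
  have hnz : ∀ χ ∈ B.toFinset, n χ ψ ≠ 0 := fun χ hχ h => by
    refine hne χ (Set.mem_toFinset.1 hχ) ψ hψ h0 ?_
    rw [hFn, h, Int.cast_zero]
  have hψ' : ψ ∈ B.toFinset := Set.mem_toFinset.2 hψ
  have hpos : ∀ χ ∈ B.toFinset, 1 ≤ n χ χ := fun χ hχ => by
    have hge : n χ ψ ^ 2 ≤ 4 * n χ χ := hid χ ▸
      Finset.single_le_sum (f := fun φ => n χ φ ^ 2) (fun _ _ => sq_nonneg _) hψ'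
    have : 0 < n χ ψ ^ 2 := pow_two_pos_of_ne_zero (hnz χ hχ)
    omega
  have hodd : ¬ (2 : ℤ) ∣ n ψ ψ := by
    rintro ⟨m, hm⟩
    have hmem : MemLocalIdeal M (F ψ ψ 1) := by
      rw [hFn, hm, Int.cast_mul, mul_comm]
      refine Blocks.memLocalIdeal_mul_left (Blocks.mem_localRing.1 (Blocks.intCast_mem_localRing m)) ?_
      have := (Blocks.memLocalIdeal_natCast_iff hM 2).2 dvd_rfl
      simpa using this
    subst hC
    have hVR := memLocalRing_blockVal hM f
      (Chars.isCharacter_restrict (Subgroup.centralizer ({z} : Set G)) (Chars.irr_isCharacter ψ))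
    have hV := blockVal_subsection hM ⟨1, hz'⟩ hf hψ h0
    exact Blocks.not_memLocalIdeal_mul (Blocks.mem_localRing.1 (mul_mem (Blocks.mem_localRing.2 hlR)
      (Blocks.mem_localRing.2 hVR))) hVR (Blocks.not_memLocalIdeal_mul hlR hVR hlU hV) hV
      (by simpa using Blocks.memLocalIdeal_sub hmem (hlam ψ ψ))
  exact ⟨n, ψ, hψ', hn4, hsym, hid2, htr', hnz, hpos, hodd⟩

open Contrib in
omit [Finite G] in
include hM in
/-- A major subsection at an involution, of defect two and rank one: not two or three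
characters. -/
theorem card_ne_two_three {B : Set (IrrCharacter G)} (hz : orderOf z = 2)
    (hC : C = Subgroup.centralizer ({z} : Set G)) (hf : IsInducedBlock M C f B)
    (hd : blockDefect 2 f = 2) (hmaj : blockDefect 2 f = blockDefect 2 B)
    (hl : blockRank 2 f = 1) : Nat.card B ≠ 2 ∧ Nat.card B ≠ 3 := by
  classical
  haveI : Fintype B := Fintype.ofFinite _
  obtain ⟨n, ψ, hψ', -, hsym, hid2, htr', hnz, hpos, hodd⟩ := exists_intForm hM hz hC hf hd hmaj hl
  have hid : ∀ χ, ∑ φ ∈ B.toFinset, n χ φ ^ 2 = 4 * n χ χ := fun χ => by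
    rw [← hid2 χ χ]
    exact Finset.sum_congr rfl fun φ _ => by rw [hsym φ χ, ← sq]
  have hcard : Nat.card B = B.toFinset.card := Nat.card_eq_card_toFinset B
  have hrest : ((B.toFinset.erase ψ).card : ℤ) + n ψ ψ ≤ 4 := by
    rw [← htr', ← Finset.add_sum_erase _ _ hψ', Finset.cast_card, add_comm]
    gcongr with χ hχ
    exact hpos χ (Finset.mem_of_mem_erase hχ)
  rw [Finset.card_erase_of_mem hψ'] at hrest
  have hsq := hid ψ
  rw [← Finset.add_sum_erase _ _ hψ'] at hsq
  have hones : ∀ φ ∈ B.toFinset.erase ψ, 0 < n ψ φ ^ 2 := fun φ hφ =>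
    pow_two_pos_of_ne_zero fun h => hnz φ (Finset.mem_of_mem_erase hφ) ((hsym φ ψ).trans h)
  have hψ1 := hpos ψ hψ'
  refine ⟨fun hk => ?_, fun hk => ?_⟩
  · obtain ⟨φ, hφ⟩ : ∃ φ, B.toFinset.erase ψ = {φ} :=
      Finset.card_eq_one.1 (by rw [Finset.card_erase_of_mem hψ', ← hcard, hk])
    rw [hφ, Finset.sum_singleton] at hsq
    rw [← hcard, hk] at hrest
    generalize n ψ φ = x at hsq
    generalize n ψ ψ = a at hsq hrest hodd hψ1
    have ha : a = 1 ∨ a = 3 := by omega
    have hx1 : x ≤ 1 ∧ -1 ≤ x ∨ 2 ≤ x ∨ x ≤ -2 := by omega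
    rcases hx1 with ⟨hx1, hx2⟩ | hx1 | hx1
    · interval_cases x <;> rcases ha with rfl | rfl <;> norm_num at hsq
    · rcases ha with rfl | rfl <;> nlinarith
    · rcases ha with rfl | rfl <;> nlinarith
  · rw [← hcard, hk] at hrest
    have ha : n ψ ψ = 1 := by omega
    rw [ha] at hsq
    obtain ⟨φ, φ', hne', hφ⟩ := Finset.card_eq_two.1
      (show (B.toFinset.erase ψ).card = 2 by rw [Finset.card_erase_of_mem hψ', ← hcard, hk])
    rw [hφ, Finset.sum_pair hne'] at hsq
    have h2 := hones φ (by simp [hφ])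
    have h3 := hones φ' (by simp [hφ])
    generalize n ψ φ = x at hsq h2
    generalize n ψ φ' = y at hsq h3
    have hx : -1 ≤ x ∧ x ≤ 1 := by constructor <;> nlinarith
    have hy : -1 ≤ y ∧ y ≤ 1 := by constructor <;> nlinarith
    obtain ⟨hx1, hx2⟩ := hx
    obtain ⟨hy1, hy2⟩ := hy
    interval_cases x <;> interval_cases y <;> simp_all

end Integral

/-- The structure of a block with Klein four defect group. -/
theorem main (hM : IsPModular 2 M) (hmax : IsMaximalBrauerPair 2 M B b.1 b.2)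
    (hV : IsKleinFour b.1) :
    (inertia hmax = 1 ∨ inertia hmax = 3) ∧ Nat.card B = 4 ∧ blockRank 2 B = inertia hmax := by
  classical
  haveI : Fact (Nat.Prime 2) := ⟨Nat.prime_two⟩
  cases nonempty_fintype G
  haveI : Fintype ↥(b.1 : Subgroup G) := Fintype.ofFinite _
  have hb : IsPair 2 M b := hmax.1.1
  choose A hA using fun u : G => show ∃ a : BrauerPairIdx G, u ∈ b.1 →
      a.1 = Subgroup.zpowers u ∧ PairLE 2 M a b by
    by_cases hu : u ∈ b.1
    · obtain ⟨a, ha⟩ := BrauerPairs.exists_pairLE hM hb (Subgroup.zpowers_le.2 hu)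
      exact ⟨a, fun _ => ha⟩
    · exact ⟨b, fun h => absurd h hu⟩
  have hlocal : ∀ u ∈ b.1, u ≠ 1 → blockRank 2 (A u).2 = 1 := fun u hu hu1 =>
    rank_local hM hmax hV hu hu1 (hA u hu).1 (hA u hu).2
  obtain ⟨h1, h3⟩ := card_block_eq hM hmax hV hA
  obtain ⟨u, hu, hu1, -⟩ := exists_ne hV (1 : G)
  have hle := card_le_four hM hmax hV hu hu1 (hA u hu).1 (hA u hu).2 (hlocal u hu hu1)
  have hpos := blockRank_pos (p := 2) Nat.prime_two hmax.1.2.1
  refine ⟨inertia_eq hM hmax hV, ?_⟩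
  rcases inertia_eq hM hmax hV with he | he
  · have hk := h1 he
    rw [Finset.sum_congr rfl fun (v : ↥(b.1 : Subgroup G)) hv =>
      hlocal (v : G) v.2 (Finset.mem_filter.1 hv).2, Finset.sum_const, smul_eq_mul, mul_one,
      card_filter_ne_one hV] at hk
    omega
  · have hk := h3 he u hu hu1
    rw [hlocal u hu hu1] at hk
    haveI := Fintype.ofFinite (Subgroup.centralizer ((A u).1 : Set G))
    have hne := card_ne_two_three hM (z := u) (orderOf_eq_two hV hu hu1)
      (C := Subgroup.centralizer ((A u).1 : Set G))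
      (by rw [(hA u hu).1, BrauerPairs.centralizer_zpowers])
      (Star.isInducedBlock_of_isBrauerPairOf hM (isBrauerPairOf_below hM hmax (hA u hu).2))
      ((blockDefect_below hM hmax hV (hA u hu).2).trans (blockDefect_eq_of_card hM hmax.1.2.1
        (BrauerPairs.isDefectGroup_of_isMaximal hM hmax) hV.card_four))
      (blockDefect_below hM hmax hV (hA u hu).2) (hlocal u hu hu1)
    omega

end Cfsg.Agent.Lib.KleinBlock
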