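import Cfsg.Agent.Lib.KleinBlock.Projective
import Cfsg.Agent.Lib.BrauerPairs.Conj
import Cfsg.Agent.Lib.BrauerPairs.Deficiency
import Cfsg.Agent.Lib.Contrib.Matrix
import Cfsg.Agent.Lib.Blocks.PrincipalSection
import Cfsg.Agent.Lib.Blocks.SectionSums
import Mathlib

/-!
# Section coefficients: values and orthogonality
-/

set_option autoImplicit false

namespace Cfsg.Agent.Lib.KleinBlock

open Cfsg
open Cfsg.Agent.Lib
open Cfsg.Agent.Lib.Contrib
open Cfsg.Agent.Lib.BrauerPairs (conjPair centEquiv)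
open scoped ComplexConjugate

universe u

variable {G : Type u} [Group G] [Fintype G] {p : ℕ} [Fact p.Prime] {M : Ideal AlgInt} [M.IsPrime]
  {C : Subgroup G} [Fintype C] {x : G} {b : Set (IrrCharacter C)}

open Classical in
/-- The pairing of the characters with a section coefficient. -/
theorem sum_secCoef_mul_apply (hx : ∃ k : ℕ, orderOf x = p ^ k)
    (hC : C = Subgroup.centralizer ({x} : Set G)) (ξ : IrrCharacter C) (g : G) :
    ∑ χ : IrrCharacter G, secCoef p x χ ξ * (χ : G → ℂ) g =
      if h : ∃ y : C, ¬ p ∣ orderOf y ∧ IsConj (x * (y : G)) g⁻¹ then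
        conj ((ξ : C → ℂ) h.choose) else 0 := by
  subst hC
  have hcol : ∀ y : Subgroup.centralizer ({x} : Set G),
      ∑ χ : IrrCharacter G, (χ : G → ℂ) (x * (y : G)) * (χ : G → ℂ) g =
        if IsConj (x * (y : G)) g⁻¹ then (Nat.card (Subgroup.centralizer ({g⁻¹} : Set G)) : ℂ) else 0 := by
    intro y
    have e : ∀ χ : IrrCharacter G, (χ : G → ℂ) g = conj ((χ : G → ℂ) g⁻¹) := fun χ => by
      rw [← Chars.irr_inv, inv_inv]
    simp only [e]
    split_ifs with hc
    · rw [Chars.column_orthogonality_of_isConj hc, Chars.card_centralizer_eq_of_isConj hc]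
    · exact Chars.column_orthogonality_of_not_isConj hc
  have hexp : ∑ χ : IrrCharacter G, secCoef p x χ ξ * (χ : G → ℂ) g =
      (Nat.card (Subgroup.centralizer ({x} : Set G)) : ℂ)⁻¹ *
        ∑ y : Subgroup.centralizer ({x} : Set G), (if p ∣ orderOf y then 0 else
          conj ((ξ : _ → ℂ) y) *
            ∑ χ : IrrCharacter G, (χ : G → ℂ) (x * (y : G)) * (χ : G → ℂ) g) := by
    simp only [secCoef, classInner, Finset.mul_sum, Finset.sum_mul]
    rw [Finset.sum_comm]
    refine Finset.sum_congr rfl fun y _ => ?_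
    by_cases hy : p ∣ orderOf y
    · simp [BrauerFeit.pRegularPart_apply, hy]
    · simp only [BrauerFeit.pRegularPart_apply, if_neg hy, Finset.mul_sum]
      exact Finset.sum_congr rfl fun χ _ => by ring
  rw [hexp]
  simp only [hcol]
  split_ifs with h
  · obtain ⟨hy0, hc0⟩ := h.choose_spec
    generalize h.choose = y0 at hy0 hc0 ⊢
    have hiff : ∀ y : Subgroup.centralizer ({x} : Set G), ¬ p ∣ orderOf y →
        (IsConj (x * (y : G)) g⁻¹ ↔ IsConj y0 y) := fun y hy => by
      rw [← Blocks.PrincipalSection.isConj_mul_iff hx hy0 hy]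
      exact ⟨fun h' => hc0.trans h'.symm, fun h' => h'.symm.trans hc0⟩
    have hterm : ∀ y : Subgroup.centralizer ({x} : Set G),
        (if p ∣ orderOf y then 0 else conj ((ξ : _ → ℂ) y) *
          if IsConj (x * (y : G)) g⁻¹ then (Nat.card (Subgroup.centralizer ({g⁻¹} : Set G)) : ℂ)
            else 0) =
        if IsConj y0 y then conj ((ξ : _ → ℂ) y0) *
          (Nat.card (Subgroup.centralizer ({g⁻¹} : Set G)) : ℂ) else 0 := by
      intro y
      by_cases hy : p ∣ orderOf y
      · rw [if_pos hy, if_neg fun hc => hy0 ?_]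
        obtain ⟨c, rfl⟩ := isConj_iff.1 hc
        rwa [show orderOf (c * y0 * c⁻¹) = orderOf y0 from
          orderOf_injective (MulAut.conj c).toMonoidHom (MulAut.conj c).injective y0] at hy
      · rw [if_neg hy]
        by_cases hc : IsConj y0 y
        · rw [if_pos hc, if_pos ((hiff y hy).2 hc),
            Chars.isClassFunction_apply_eq (Chars.irr_isClassFunction ξ) hc]
        · rw [if_neg hc, if_neg (mt (hiff y hy).1 hc), mul_zero]
    rw [Finset.sum_congr rfl fun y _ => hterm y, ← Finset.sum_filter, Finset.sum_const,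
      ← Fintype.card_subtype, ← Nat.card_eq_fintype_card, Chars.card_conjClass_eq_index,
      ← Chars.card_centralizer_eq_of_isConj hc0,
      Blocks.PrincipalSection.card_centralizer_mul hx hy0, nsmul_eq_mul,
      ← Subgroup.index_mul_card (Subgroup.centralizer ({y0} : Set (Subgroup.centralizer ({x} : Set G))))]
    have h1 : (((Subgroup.centralizer ({y0} : Set (Subgroup.centralizer ({x} : Set G)))).index : ℕ)
        : ℂ) ≠ 0 := Nat.cast_ne_zero.2 Subgroup.index_ne_zero_of_finite
    have h2 : ((Nat.card (Subgroup.centralizer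
        ({y0} : Set (Subgroup.centralizer ({x} : Set G))))) : ℂ) ≠ 0 := Chars.natCard_ne_zero
    push_cast
    field_simp
  · rw [Finset.sum_eq_zero fun y _ => ?_, mul_zero]
    by_cases hy : p ∣ orderOf y
    · rw [if_pos hy]
    · rw [if_neg hy, if_neg fun hc => h ⟨y, hy, hc⟩, mul_zero]

/-- The block part at a regular element from the section coefficients. -/
theorem sum_secCoef_mul_irr (hM : IsPModular p M) (hC : C = Subgroup.centralizer ({x} : Set G))
    (hb : IsPBlock M b) [Fintype b] (χ : IrrCharacter G) {y : C} (hy : ¬ p ∣ orderOf y) :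
    ∑ ξ ∈ b.toFinset, secCoef p x χ ξ * (ξ : C → ℂ) y =
      ∑ η ∈ b.toFinset, secMult hC χ η * (η : C → ℂ) y := by
  classical
  rw [Finset.sum_congr rfl fun ξ hξ => by
    rw [secCoef_eq_block hM hC hb χ (Set.mem_toFinset.1 hξ), Finset.sum_mul], Finset.sum_comm]
  refine Finset.sum_congr (Finset.ext fun η => by simp) fun η hη => ?_
  have hreg := BrauerFeit.pRegularPart_eq_finsum (BrauerFeit.regOrth hM) hb
    (χ := η) (by simpa using hη) y
  rw [BrauerFeit.pRegularPart_apply, if_neg hy, finsum_mem_eq_toFinset_sum] at hreg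
  rw [hreg, Finset.mul_sum]
  exact Finset.sum_congr (Finset.ext fun ξ => by simp) fun ξ _ => by ring

omit [M.IsPrime] in
/-- Sections of nonconjugate elements are orthogonal. -/
theorem sum_secCoef_orth_of_not_isConj (hx : ∃ k : ℕ, orderOf x = p ^ k) {D : Subgroup G}
    [Fintype D] {v : G} (hv : ∃ k : ℕ, orderOf v = p ^ k)
    (hC : C = Subgroup.centralizer ({x} : Set G)) (hD : D = Subgroup.centralizer ({v} : Set G))
    (hne : ¬ IsConj x v) (ξ : IrrCharacter C) (ζ : IrrCharacter D) :
    ∑ χ : IrrCharacter G, secCoef p x χ ξ * conj (secCoef p v χ ζ) = 0 := by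
  classical
  simp only [secCoef, classInner, map_mul, map_sum, Finset.mul_sum, Finset.sum_mul]
  rw [Finset.sum_comm, Finset.sum_eq_zero]
  intro z _
  rw [Finset.sum_comm, Finset.sum_eq_zero]
  intro y _
  simp only [BrauerFeit.pRegularPart_apply]
  by_cases hy : p ∣ orderOf y
  · simp [hy]
  by_cases hz : p ∣ orderOf z
  · simp [hz]
  simp only [if_neg hy, if_neg hz]
  have hcy : Commute x (y : G) :=
    (show (y : G) * x = x * y from Subgroup.mem_centralizer_singleton_iff.1 (hC.le y.2)).symm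
  have hcz : Commute v (z : G) :=
    (show (z : G) * v = v * z from Subgroup.mem_centralizer_singleton_iff.1 (hD.le z.2)).symm
  have hn : ¬ IsConj (x * (y : G)) (v * (z : G)) := fun hc => hne (by
    obtain ⟨c, hc⟩ := isConj_iff.1 hc
    exact isConj_iff.2 ⟨c, Blocks.isPPart_unique
      (hc ▸ Blocks.isPPart_conj (Blocks.Sections.isPPart_mul p hx hcy
        (by rwa [Subgroup.orderOf_coe])) c)
      (Blocks.Sections.isPPart_mul p hv hcz (by rwa [Subgroup.orderOf_coe]))⟩)
  rw [Finset.sum_congr rfl (g := fun χ : IrrCharacter G =>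
      ((χ : G → ℂ) (x * (y : G)) * conj ((χ : G → ℂ) (v * (z : G)))) *
      ((Nat.card C : ℂ)⁻¹ * conj (Nat.card D : ℂ)⁻¹ * conj ((ξ : C → ℂ) y) *
        (ζ : D → ℂ) z)) (fun χ _ => by simp only [Complex.conj_conj]; ring), ← Finset.sum_mul,
    Chars.column_orthogonality_of_not_isConj hn, zero_mul]

/-- Two blocks at one element give orthogonal sections. -/
theorem sum_secCoef_orth_same (hM : IsPModular p M) {v : G} (hv : ∃ k : ℕ, orderOf v = p ^ k)
    {d c : BrauerPairIdx G} (hd1 : d.1 = Subgroup.zpowers v) (hc1 : c.1 = Subgroup.zpowers v)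
    [Fintype (Subgroup.centralizer (d.1 : Set G))] [Fintype (Subgroup.centralizer (c.1 : Set G))]
    (hd : IsPBlock M d.2) (hc : IsPBlock M c.2) (hne : d ≠ c)
    {ξ : IrrCharacter (Subgroup.centralizer (d.1 : Set G))} (hξ : ξ ∈ d.2)
    {ζ : IrrCharacter (Subgroup.centralizer (c.1 : Set G))} (hζ : ζ ∈ c.2) :
    ∑ χ : IrrCharacter G, secCoef p v χ ξ * conj (secCoef p v χ ζ) = 0 := by
  classical
  obtain ⟨Q, f⟩ := d
  obtain ⟨R, f'⟩ := c
  simp only at hd1 hc1
  subst hd1
  subst hc1
  rename_i i1 i2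
  obtain rfl : i1 = i2 := Subsingleton.elim _ _
  rw [sum_secCoef_mul_conj hM hv (BrauerPairs.centralizer_zpowers v)]
  refine BrauerFeit.regCoef_eq_zero_of_not_mem (BrauerFeit.regOrth hM) hc hζ fun h => hne ?_
  exact congrArg (Sigma.mk (Subgroup.zpowers v)) (Blocks.isPBlock_eq_of_mem hd hc hξ h)

/-- Different pairs give orthogonal sections, even at the same element. -/
theorem sum_secCoef_orth_of_pairs (hM : IsPModular p M) {u v : G}
    (hu : ∃ k : ℕ, orderOf u = p ^ k) (hv : ∃ k : ℕ, orderOf v = p ^ k)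
    {a c : BrauerPairIdx G} (ha1 : a.1 = Subgroup.zpowers u) (hc1 : c.1 = Subgroup.zpowers v)
    [Fintype (Subgroup.centralizer (a.1 : Set G))] [Fintype (Subgroup.centralizer (c.1 : Set G))]
    (ha : IsPBlock M a.2) (hc : IsPBlock M c.2) (hne : ∀ g : G, conjPair g a ≠ c)
    {ξ : IrrCharacter (Subgroup.centralizer (a.1 : Set G))} (hξ : ξ ∈ a.2)
    {ζ : IrrCharacter (Subgroup.centralizer (c.1 : Set G))} (hζ : ζ ∈ c.2) :
    ∑ χ : IrrCharacter G, secCoef p u χ ξ * conj (secCoef p v χ ζ) = 0 := by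
  classical
  have hCa : Subgroup.centralizer (a.1 : Set G) = Subgroup.centralizer ({u} : Set G) := by
    rw [ha1, BrauerPairs.centralizer_zpowers]
  have hCc : Subgroup.centralizer (c.1 : Set G) = Subgroup.centralizer ({v} : Set G) := by
    rw [hc1, BrauerPairs.centralizer_zpowers]
  by_cases huv : IsConj u v
  swap
  · exact sum_secCoef_orth_of_not_isConj hu hv hCa hCc huv ξ ζ
  obtain ⟨g, hg⟩ := isConj_iff.1 huv
  have hfst : (conjPair g a).1 = Subgroup.zpowers v := by
    rw [BrauerPairs.conjPair_fst, ha1, MonoidHom.map_zpowers]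
    simp [hg]
  -- the transported character
  have key : ∀ χ : IrrCharacter G, secCoef p u χ ξ = secCoef p v χ
      (Chars.irrCongr (centEquiv a.1 g).symm ξ :
        IrrCharacter (Subgroup.centralizer ((conjPair g a).1 : Set G))) := by
    intro χ
    simp only [secCoef, classInner]
    rw [Nat.card_congr (centEquiv a.1 g).toEquiv]
    congr 1
    refine Fintype.sum_equiv (centEquiv a.1 g).toEquiv _ _ fun z => ?_
    simp only [BrauerFeit.pRegularPart_apply, MulEquiv.toEquiv_eq_coe, EquivLike.coe_coe,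
      MulEquiv.orderOf_eq, BrauerMap.irrCongr_apply, MulEquiv.symm_apply_apply]
    split_ifs
    · rfl
    · rw [BrauerPairs.coe_centEquiv, ← hg,
        show g * u * g⁻¹ * (g * (z : G) * g⁻¹) = g * (u * (z : G)) * g⁻¹ by group,
        Chars.irr_isClassFunction χ]
  simp only [key]
  have hξ' : (Chars.irrCongr (centEquiv a.1 g).symm ξ :
      IrrCharacter (Subgroup.centralizer ((conjPair g a).1 : Set G))) ∈ (conjPair g a).2 := by
    show _ ∈ conjBlock a.1 g a.2
    rw [BrauerPairs.conjBlock_eq_image]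
    exact ⟨ξ, hξ, rfl⟩
  exact sum_secCoef_orth_same hM hv hfst hc1 (BrauerPairs.isPBlock_conjPair ha g) hc (hne g)
    hξ' hζ

end Cfsg.Agent.Lib.KleinBlock
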