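import Cfsg.Agent.Lib.KleinBlock.Main
import Cfsg.Agent.Lib.KleinBlock.Sections
import Mathlib

/-!
# The sign columns of a block with Klein four defect group
-/

set_option autoImplicit false

namespace Cfsg.Agent.Lib.KleinBlock

open Cfsg
open Cfsg.Agent.Lib
open Cfsg.Agent.Lib.BrauerPairs (IsPair PairLE conjPair pairStab)
open scoped ComplexConjugate

universe u

variable {G : Type u} [Group G]

/-- The members of a set of characters, as a finset. -/
noncomputable def bfin [Finite G] (B : Set (IrrCharacter G)) : Finset (IrrCharacter G) :=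
  haveI : Fintype G := Fintype.ofFinite G
  B.toFinite.toFinset

theorem mem_bfin [Finite G] {B : Set (IrrCharacter G)} {χ : IrrCharacter G} :
    χ ∈ bfin B ↔ χ ∈ B := by simp [bfin]

theorem card_bfin [Finite G] (B : Set (IrrCharacter G)) : (bfin B).card = Nat.card B := by
  rw [Nat.card_coe_set_eq, bfin, Set.ncard_eq_toFinset_card]

/-- Sign vectors spanning the singular part of a block with four characters. -/
structure Signs [Finite G] (M : Ideal AlgInt) (B : Set (IrrCharacter G)) (ι : Type u)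
    [Fintype ι] where
  δ : ι → IrrCharacter G → ℤ
  sign : ∀ i, ∀ χ ∈ B, δ i χ = 1 ∨ δ i χ = -1
  orth : ∀ i j, i ≠ j → ∑ χ ∈ bfin B, δ i χ * δ j χ = 0
  regular : ∀ i, ∀ x : G, ¬ 2 ∣ orderOf x → ∑ χ ∈ bfin B, (δ i χ : ℂ) * (χ : G → ℂ) x = 0
  singular : ∀ x : G, 2 ∣ orderOf x → ∀ χ ∈ B, 4 * (χ : G → ℂ) x =
    ∑ i, (δ i χ : ℂ) * ∑ φ ∈ bfin B, (δ i φ : ℂ) * (φ : G → ℂ) x
  div_four : ∀ i (x : G),
    MemLocalRing M ((∑ χ ∈ bfin B, (δ i χ : ℂ) * (χ : G → ℂ) x) / 4)
  div_centralizer : ∀ i (x : G), MemLocalRing M ((∑ χ ∈ bfin B, (δ i χ : ℂ) * (χ : G → ℂ) x) /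
    (Nat.card (Subgroup.centralizer ({x} : Set G)) : ℂ))

variable [Fintype G] {M : Ideal AlgInt} [M.IsPrime] {B : Set (IrrCharacter G)}

/-- The sign column of one subsection. -/
theorem exists_sign (hM : IsPModular 2 M) {u : G} (hu : orderOf u = 2) {a : BrauerPairIdx G}
    (ha1 : a.1 = Subgroup.zpowers u) [Fintype (Subgroup.centralizer (a.1 : Set G))]
    (hind : IsInducedBlock M (Subgroup.centralizer (a.1 : Set G)) a.2 B)
    (hd : blockDefect 2 a.2 = 2) (hmaj : blockDefect 2 a.2 = blockDefect 2 B)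
    (hl : blockRank 2 a.2 = 1) (hk : Nat.card B = 4) :
    ∃ ψ ∈ B, ∃ δ : IrrCharacter G → ℤ, (∀ χ ∈ B, δ χ = 1 ∨ δ χ = -1) ∧
      ∀ χ, (4 : ℂ) * Contrib.contrib 2 u a.2 χ ψ = δ χ := by
  classical
  haveI : Fintype B := Fintype.ofFinite _
  have hC : Subgroup.centralizer (a.1 : Set G) = Subgroup.centralizer ({u} : Set G) := by
    rw [ha1, BrauerPairs.centralizer_zpowers]
  obtain ⟨n, ψ, hψ, hn4, hsym, hid2, htr, hnz, hpos, -⟩ := exists_intForm hM hu hC hind hd hmaj hl
  have hcard : B.toFinset.card = 4 := by rw [← hk, Nat.card_eq_card_toFinset]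
  have hψψ : n ψ ψ = 1 := by
    have h1 := Finset.add_sum_erase B.toFinset (fun χ => n χ χ) hψ
    have h2 : ((B.toFinset.erase ψ).card : ℤ) ≤ ∑ χ ∈ B.toFinset.erase ψ, n χ χ := by
      rw [Finset.cast_card]
      exact Finset.sum_le_sum fun χ hχ => hpos χ (Finset.mem_of_mem_erase hχ)
    rw [Finset.card_erase_of_mem hψ, hcard] at h2
    have := hpos ψ hψ
    simp only [htr] at h1
    omega
  refine ⟨ψ, Set.mem_toFinset.1 hψ, fun χ => n χ ψ, fun χ hχ => ?_, fun χ => hn4 χ ψ⟩
  have hrow := hid2 ψ ψ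
  rw [hψψ, mul_one, Finset.sum_congr rfl fun φ _ => by rw [hsym ψ φ]] at hrow
  have hge : ∀ φ ∈ B.toFinset, 1 ≤ n φ ψ * n φ ψ := fun φ hφ => by
    have := mul_self_pos.2 (hnz φ hφ)
    omega
  have hχ' : χ ∈ B.toFinset := Set.mem_toFinset.2 hχ
  have h1 := Finset.add_sum_erase B.toFinset (fun φ => n φ ψ * n φ ψ) hχ'
  have h2 : ((B.toFinset.erase χ).card : ℤ) ≤ ∑ φ ∈ B.toFinset.erase χ, n φ ψ * n φ ψ := by
    rw [Finset.cast_card]
    exact Finset.sum_le_sum fun φ hφ => hge φ (Finset.mem_of_mem_erase hφ)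
  rw [Finset.card_erase_of_mem hχ', hcard] at h2
  simp only [hrow] at h1
  have h3 := hge χ hχ'
  have h4 : n χ ψ * n χ ψ = 1 := by omega
  exact Int.eq_one_or_neg_one_of_mul_eq_one h4

omit [M.IsPrime] in
theorem card_centralizer_section {x : G} (hx : ∃ k : ℕ, orderOf x = 2 ^ k) {C : Subgroup G}
    [Fintype C] (hC : C = Subgroup.centralizer ({x} : Set G)) {y : C} (hy : ¬ 2 ∣ orderOf y) :
    Nat.card (Subgroup.centralizer ({x * (y : G)} : Set G)) =
      Nat.card (Subgroup.centralizer ({y} : Set C)) := by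
  subst hC
  haveI : Fact (Nat.Prime 2) := ⟨Nat.prime_two⟩
  exact Blocks.PrincipalSection.card_centralizer_mul hx hy

/-- Values of the signed sum of a subsection. -/
theorem signed_sum_props (hM : IsPModular 2 M) {u : G} (hu : orderOf u = 2) {a : BrauerPairIdx G}
    (ha1 : a.1 = Subgroup.zpowers u) [Fintype (Subgroup.centralizer (a.1 : Set G))]
    (hind : IsInducedBlock M (Subgroup.centralizer (a.1 : Set G)) a.2 B)
    (hd : blockDefect 2 a.2 = 2) {ψ : IrrCharacter G} {δ : IrrCharacter G → ℤ}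
    (hδ : ∀ χ, (4 : ℂ) * Contrib.contrib 2 u a.2 χ ψ = δ χ) (x : G) :
    (¬ 2 ∣ orderOf x → ∑ χ ∈ bfin B, (δ χ : ℂ) * (χ : G → ℂ) x = 0) ∧
      MemLocalRing M ((∑ χ ∈ bfin B, (δ χ : ℂ) * (χ : G → ℂ) x) / 4) ∧
      MemLocalRing M ((∑ χ ∈ bfin B, (δ χ : ℂ) * (χ : G → ℂ) x) /
        (Nat.card (Subgroup.centralizer ({x} : Set G)) : ℂ)) := by
  classical
  haveI : Fact (Nat.Prime 2) := ⟨Nat.prime_two⟩
  have hC : Subgroup.centralizer (a.1 : Set G) = Subgroup.centralizer ({u} : Set G) := by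
    rw [ha1, BrauerPairs.centralizer_zpowers]
  have hx : ∃ k : ℕ, orderOf u = 2 ^ k := ⟨1, by rw [hu]; rfl⟩
  haveI : Fintype a.2 := Fintype.ofFinite _
  have hsum : ∑ χ ∈ bfin B, (δ χ : ℂ) * (χ : G → ℂ) x =
      4 * ∑ ξ ∈ a.2.toFinset, conj (Contrib.secCoef 2 u ψ ξ) *
        ∑ χ : IrrCharacter G, Contrib.secCoef 2 u χ ξ * (χ : G → ℂ) x := by
    simp only [← hδ, Contrib.contrib]
    rw [Finset.mul_sum]
    simp only [Finset.mul_sum, Finset.sum_mul]
    rw [Finset.sum_comm]
    refine Finset.sum_congr (Finset.ext fun ξ => by simp) fun ξ hξ => ?_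
    rw [Finset.sum_subset (Finset.subset_univ (bfin B))]
    · exact Finset.sum_congr rfl fun χ _ => by ring
    · intro χ _ hχ
      rw [Contrib.secCoef_eq_zero hM hx hC hind (fun h => hχ (mem_bfin.2 h)) (by simpa using hξ)]
      ring
  simp only [sum_secCoef_mul_apply hx hC] at hsum
  by_cases hex : ∃ y : (Subgroup.centralizer (a.1 : Set G)), ¬ 2 ∣ orderOf y ∧ IsConj (u * (y : G)) x⁻¹
  swap
  · simp only [dif_neg hex, mul_zero, Finset.sum_const_zero] at hsum
    rw [hsum, zero_div, zero_div]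
    exact ⟨fun _ => rfl, Blocks.mem_localRing.1 (Subring.zero_mem _),
      Blocks.mem_localRing.1 (Subring.zero_mem _)⟩
  simp only [dif_pos hex] at hsum
  obtain ⟨hy, hconj⟩ := hex.choose_spec
  generalize hex.choose = y at hy hconj hsum
  choose m hm using fun η : IrrCharacter (Subgroup.centralizer (a.1 : Set G)) => show ∃ m : ℤ, Contrib.secMult hC ψ η = m by
    obtain ⟨n, hn⟩ := Chars.isCharacter_classInner_nat
      (Chars.isCharacter_restrict (Subgroup.centralizer (a.1 : Set G)) (Chars.irr_isCharacter ψ)) (Chars.irr_isCharacter η)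
    have h1 := Contrib.secScalar_pow_eq_one (p := 2) hC η (k := 1) (by
      rw [pow_one, ← hu, pow_orderOf_eq_one])
    rw [pow_one, sq_eq_one_iff] at h1
    rcases h1 with h1 | h1
    · exact ⟨n, by simp [Contrib.secMult, hn, h1]⟩
    · exact ⟨-n, by simp [Contrib.secMult, hn, h1]⟩
  have hval : ∑ χ ∈ bfin B, (δ χ : ℂ) * (χ : G → ℂ) x =
      4 * ∑ η ∈ a.2.toFinset, (m η : ℂ) * (η : (Subgroup.centralizer (a.1 : Set G)) → ℂ) y⁻¹ := by
    rw [hsum, Finset.sum_congr rfl fun ξ _ => (map_mul (starRingEnd ℂ) _ _).symm, ← map_sum,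
      sum_secCoef_mul_irr hM hC hind.1 ψ hy, map_sum]
    refine congrArg _ (Finset.sum_congr rfl fun η _ => ?_)
    rw [map_mul, hm, map_intCast, Chars.irr_inv]
  refine ⟨fun hreg => absurd ?_ hreg, ?_, ?_⟩
  · rw [← orderOf_inv]
    obtain ⟨c, hc⟩ := isConj_iff.1 hconj
    rw [← hc, show orderOf (c * (u * (y : G)) * c⁻¹) = orderOf (u * (y : G)) from
      orderOf_injective (MulAut.conj c).toMonoidHom (MulAut.conj c).injective _]
    have hcom : Commute u (y : G) :=
      (show (y : G) * u = u * y from Subgroup.mem_centralizer_singleton_iff.1 (hC.le y.2)).symm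
    rw [hcom.orderOf_mul_eq_mul_orderOf_of_coprime (by
      rw [hu, Subgroup.orderOf_coe]
      exact (Nat.prime_two.coprime_iff_not_dvd).2 hy), hu]
    exact dvd_mul_right 2 _
  · rw [hval, mul_div_cancel_left₀ _ (by norm_num : (4 : ℂ) ≠ 0)]
    exact Blocks.mem_localRing.1 (Subring.sum_mem _ fun η _ => mul_mem
      (Blocks.intCast_mem_localRing _)
      (Blocks.isIntegral_mem_localRing (Chars.irr_isIntegral η _)))
  · have hcard : Nat.card (Subgroup.centralizer ({x} : Set G)) =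
        Nat.card (Subgroup.centralizer ({y} : Set (Subgroup.centralizer (a.1 : Set G)))) := by
      have h1 : Nat.card (Subgroup.centralizer ({x} : Set G)) =
          Nat.card (Subgroup.centralizer ({x⁻¹} : Set G)) := by
        congr 2
        ext g
        simp only [Subgroup.mem_centralizer_singleton_iff]
        exact ⟨fun h => (show Commute g x from h).inv_right.eq,
          fun h => by simpa using (show Commute g x⁻¹ from h).inv_right.eq⟩
      rw [h1, ← Chars.card_centralizer_eq_of_isConj hconj]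
      exact card_centralizer_section hx hC hy
    have hinv : Subgroup.centralizer ({y⁻¹} : Set (Subgroup.centralizer (a.1 : Set G))) = Subgroup.centralizer ({y} : Set (Subgroup.centralizer (a.1 : Set G))) := by
      ext g
      simp only [Subgroup.mem_centralizer_singleton_iff]
      exact ⟨fun h => by simpa using (show Commute g y⁻¹ from h).inv_right.eq,
        fun h => (show Commute g y from h).inv_right.eq⟩
    rw [hval, hcard, ← hinv, Finset.mul_sum, Finset.sum_div]
    refine Blocks.mem_localRing.1 (Subring.sum_mem _ fun η hη => ?_)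
    rw [show 4 * ((m η : ℂ) * (η : (Subgroup.centralizer (a.1 : Set G)) → ℂ) y⁻¹) = (m η : ℂ) * (4 * (η : (Subgroup.centralizer (a.1 : Set G)) → ℂ) y⁻¹) by ring,
      mul_div_assoc]
    refine mul_mem (Blocks.intCast_mem_localRing _) (Blocks.mem_localRing.2 ?_)
    -- the projective function of `η`
    have hηb : η ∈ a.2 := by simpa using hη
    choose k hk using fun θ : IrrCharacter (Subgroup.centralizer (a.1 : Set G)) => (BrauerFeit.exists_int_defect_mul_regCoef hM
      (BrauerFeit.regGen 2) hηb θ)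
    have hexp : ∀ g : (Subgroup.centralizer (a.1 : Set G)), ∑ θ : IrrCharacter (Subgroup.centralizer (a.1 : Set G)), (k θ : ℂ) * (θ : (Subgroup.centralizer (a.1 : Set G)) → ℂ) g =
        4 * pRegularPart 2 (η : (Subgroup.centralizer (a.1 : Set G)) → ℂ) g := fun g => by
      rw [BrauerFeit.pRegularPart_eq_sum, Finset.mul_sum]
      refine Finset.sum_congr rfl fun θ _ => ?_
      rw [← (hk θ).1, hd, Nat.cast_ofNat]
      ring
    have hy' : ¬ 2 ∣ orderOf y⁻¹ := by rwa [orderOf_inv]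
    have := memLocalRing_div_centralizer hM (fun θ => (k θ : ℂ))
      (fun θ => Blocks.mem_localRing.1 (Blocks.intCast_mem_localRing _))
      (fun g hg => by rw [hexp, BrauerFeit.pRegularPart_apply, if_pos hg, mul_zero]) hy'
    rwa [hexp, BrauerFeit.pRegularPart_apply, if_neg hy'] at this

/-- Pairs not conjugate to each other give orthogonal sign columns. -/
theorem sign_orth (hM : IsPModular 2 M) {u v : G} (hu : orderOf u = 2) (hv : orderOf v = 2)
    {a c : BrauerPairIdx G} (ha1 : a.1 = Subgroup.zpowers u) (hc1 : c.1 = Subgroup.zpowers v)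
    [Fintype (Subgroup.centralizer (a.1 : Set G))] [Fintype (Subgroup.centralizer (c.1 : Set G))]
    (hind : IsInducedBlock M (Subgroup.centralizer (a.1 : Set G)) a.2 B)
    (hindc : IsInducedBlock M (Subgroup.centralizer (c.1 : Set G)) c.2 B)
    (hne : ∀ g : G, conjPair g a ≠ c) {ψ φ : IrrCharacter G} {δ ε : IrrCharacter G → ℤ}
    (hδ : ∀ χ, (4 : ℂ) * Contrib.contrib 2 u a.2 χ ψ = δ χ)
    (hε : ∀ χ, (4 : ℂ) * Contrib.contrib 2 v c.2 χ φ = ε χ) :
    ∑ χ ∈ bfin B, δ χ * ε χ = 0 := by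
  classical
  haveI : Fact (Nat.Prime 2) := ⟨Nat.prime_two⟩
  haveI : Fintype a.2 := Fintype.ofFinite _
  haveI : Fintype c.2 := Fintype.ofFinite _
  have hCa : Subgroup.centralizer (a.1 : Set G) = Subgroup.centralizer ({u} : Set G) := by
    rw [ha1, BrauerPairs.centralizer_zpowers]
  have hx : ∃ k : ℕ, orderOf u = 2 ^ k := ⟨1, by rw [hu]; rfl⟩
  have hy : ∃ k : ℕ, orderOf v = 2 ^ k := ⟨1, by rw [hv]; rfl⟩
  suffices h : ((∑ χ ∈ bfin B, δ χ * ε χ : ℤ) : ℂ) = 0 by exact_mod_cast h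
  push_cast
  have hterm : ∀ χ, (δ χ : ℂ) * (ε χ : ℂ) = ∑ ξ ∈ a.2.toFinset, ∑ ζ ∈ c.2.toFinset,
      16 * (conj (Contrib.secCoef 2 u ψ ξ) * Contrib.secCoef 2 v φ ζ) *
        (Contrib.secCoef 2 u χ ξ * conj (Contrib.secCoef 2 v χ ζ)) := fun χ => by
    have e : (ε χ : ℂ) = 4 * Contrib.contrib 2 v c.2 φ χ := by
      rw [← Contrib.contrib_conj χ φ, ← map_intCast (starRingEnd ℂ) (ε χ), ← hε χ, map_mul,
        map_ofNat]
    rw [e, ← hδ χ, Contrib.contrib, Contrib.contrib, Finset.mul_sum, Finset.mul_sum,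
      Finset.sum_mul_sum]
    refine Finset.sum_congr (Finset.ext fun ξ => by simp) fun ξ _ =>
      Finset.sum_congr (Finset.ext fun ζ => by simp) fun ζ _ => by ring
  rw [Finset.sum_congr rfl fun χ _ => hterm χ, Finset.sum_comm]
  refine Finset.sum_eq_zero fun ξ hξ => ?_
  rw [Finset.sum_comm]
  refine Finset.sum_eq_zero fun ζ hζ => ?_
  rw [← Finset.mul_sum, Finset.sum_subset (Finset.subset_univ (bfin B)) fun χ _ hχ => by
      rw [Contrib.secCoef_eq_zero hM hx hCa hind (fun h => hχ (mem_bfin.2 h))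
        (Set.mem_toFinset.1 hξ), zero_mul],
    sum_secCoef_orth_of_pairs hM hx hy ha1 hc1 hind.1 hindc.1 hne (Set.mem_toFinset.1 hξ)
      (Set.mem_toFinset.1 hζ), mul_zero]

/-- Orthogonal vectors of the singular part span it. -/
theorem singular_eq (hM : IsPModular 2 M) (hB : IsPBlock M B) (hk : Nat.card B = 4)
    {ι : Type u} [Fintype ι] (hι : Fintype.card ι + blockRank 2 B = 4)
    (δ : ι → IrrCharacter G → ℤ) (hsign : ∀ i, ∀ χ ∈ B, δ i χ = 1 ∨ δ i χ = -1)
    (horth : ∀ i j, i ≠ j → ∑ χ ∈ bfin B, δ i χ * δ j χ = 0)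
    (hreg : ∀ i, ∀ x : G, ¬ 2 ∣ orderOf x → ∑ χ ∈ bfin B, (δ i χ : ℂ) * (χ : G → ℂ) x = 0)
    {x : G} (hx : 2 ∣ orderOf x) {χ : IrrCharacter G} (hχ : χ ∈ B) :
    4 * (χ : G → ℂ) x =
      ∑ i, (δ i χ : ℂ) * ∑ φ ∈ bfin B, (δ i φ : ℂ) * (φ : G → ℂ) x := by
  classical
  haveI : Fact (Nat.Prime 2) := ⟨Nat.prime_two⟩
  let v : ↥(bfin B) → G → ℂ := fun φ => pRegularPart 2 ((φ : IrrCharacter G) : G → ℂ)
  let L : (↥(bfin B) → ℂ) →ₗ[ℂ] (G → ℂ) := Fintype.linearCombination ℂ v
  have hLapp : ∀ (w : ↥(bfin B) → ℂ) (g : G), L w g = if 2 ∣ orderOf g then 0 else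
      ∑ φ, w φ * ((φ : IrrCharacter G) : G → ℂ) g := fun w g => by
    simp only [L, Fintype.linearCombination_apply, Finset.sum_apply, Pi.smul_apply, smul_eq_mul,
      v, BrauerFeit.pRegularPart_apply]
    split_ifs <;> simp
  have hrange : Module.finrank ℂ (LinearMap.range L) = blockRank 2 B := by
    rw [blockRank]
    have hr : Set.range v = (fun φ : IrrCharacter G => pRegularPart 2 (φ : G → ℂ)) '' B := by
      ext f
      constructor
      · rintro ⟨φ, rfl⟩
        exact ⟨φ, mem_bfin.1 φ.2, rfl⟩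
      · rintro ⟨φ, hφ, rfl⟩
        exact ⟨⟨φ, mem_bfin.2 hφ⟩, rfl⟩
    rw [show LinearMap.range L = Submodule.span ℂ (Set.range v) from
      Fintype.range_linearCombination ℂ v, hr]
  have hker : Module.finrank ℂ (LinearMap.ker L) = Fintype.card ι := by
    have h := LinearMap.finrank_range_add_finrank_ker L
    rw [hrange, Module.finrank_fintype_fun_eq_card, Fintype.card_coe, card_bfin, hk] at h
    omega
  let d : ι → ↥(bfin B) → ℂ := fun i φ => (δ i φ : ℂ)
  have hdot : ∀ i j, ∑ φ, d i φ * d j φ = if i = j then 4 else 0 := fun i j => by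
    simp only [d]
    rw [Finset.sum_coe_sort (bfin B) (fun φ => (δ i φ : ℂ) * (δ j φ : ℂ))]
    split_ifs with h
    · subst h
      rw [Finset.sum_congr rfl (g := fun _ => (1 : ℂ)) fun φ hφ => by
        rcases hsign i φ (mem_bfin.1 hφ) with h | h <;> simp [h], Finset.sum_const, card_bfin, hk]
      norm_num
    · exact_mod_cast horth i j h
  have hli : LinearIndependent ℂ d := by
    rw [Fintype.linearIndependent_iff]
    intro g hg i
    have := congrArg (fun w : ↥(bfin B) → ℂ => ∑ φ, w φ * d i φ) hg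
    simp only [Finset.sum_apply, Pi.smul_apply, smul_eq_mul, Pi.zero_apply, zero_mul,
      Finset.sum_const_zero, Finset.sum_mul] at this
    rw [Finset.sum_comm] at this
    simp only [mul_assoc, ← Finset.mul_sum, hdot, mul_ite, mul_zero, Finset.sum_ite_eq',
      Finset.mem_univ, if_true] at this
    simpa using this
  have hmem : ∀ i, d i ∈ LinearMap.ker L := fun i => LinearMap.mem_ker.2 (funext fun g => by
    rw [hLapp, Pi.zero_apply]
    split_ifs with h
    · rfl
    · rw [← hreg i g h]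
      exact Finset.sum_coe_sort (bfin B) (fun φ => (δ i φ : ℂ) * (φ : G → ℂ) g))
  have hspan : Submodule.span ℂ (Set.range d) = LinearMap.ker L := by
    refine Submodule.eq_of_le_of_finrank_le (Submodule.span_le.2 ?_) ?_
    · rintro _ ⟨i, rfl⟩
      exact hmem i
    · rw [hker, finrank_span_eq_card hli]
  let w : ↥(bfin B) → ℂ := fun φ => ((φ : IrrCharacter G) : G → ℂ) x
  have hw : w ∈ LinearMap.ker L := LinearMap.mem_ker.2 (funext fun g => by
    rw [hLapp, Pi.zero_apply]
    split_ifs with h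
    · rfl
    · have h0 := Blocks.weak_block_orth hM hB h (h := x⁻¹) (by rwa [orderOf_inv])
      simp only [← Chars.irr_inv, inv_inv] at h0
      rw [finsum_mem_eq_finite_toFinset_sum _ B.toFinite] at h0
      rw [← h0]
      refine (Finset.sum_coe_sort (bfin B) (fun φ => (φ : G → ℂ) x * (φ : G → ℂ) g)).trans ?_
      exact Finset.sum_congr rfl fun φ _ => mul_comm _ _)
  rw [← hspan, Submodule.mem_span_range_iff_exists_fun] at hw
  obtain ⟨c, hc⟩ := hw
  have hci : ∀ i, ∑ φ ∈ bfin B, (δ i φ : ℂ) * (φ : G → ℂ) x = 4 * c i := fun i => by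
    have := congrArg (fun z : ↥(bfin B) → ℂ => ∑ φ, z φ * d i φ) hc
    simp only [Finset.sum_apply, Pi.smul_apply, smul_eq_mul, Finset.sum_mul] at this
    rw [Finset.sum_comm] at this
    simp only [mul_assoc, ← Finset.mul_sum, hdot, mul_ite, mul_zero, Finset.sum_ite_eq',
      Finset.mem_univ, if_true] at this
    rw [mul_comm (c i)] at this
    rw [this]
    simp only [w, d]
    rw [Finset.sum_coe_sort (bfin B) (fun φ => (φ : G → ℂ) x * (δ i φ : ℂ))]
    exact Finset.sum_congr rfl fun φ _ => mul_comm _ _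
  have hval := congrFun hc ⟨χ, mem_bfin.2 hχ⟩
  simp only [Finset.sum_apply, Pi.smul_apply, smul_eq_mul, w, d] at hval
  rw [← hval, Finset.mul_sum]
  exact Finset.sum_congr rfl fun i _ => by rw [hci]; ring

variable {b : BrauerPairIdx G}

/-- The sign system of a block with Klein four defect group. -/
theorem exists_signs (hM : IsPModular 2 M) (hmax : IsMaximalBrauerPair 2 M B b.1 b.2)
    (hV : IsKleinFour b.1) : ∃ (ι : Type u) (_ : Fintype ι),
      Fintype.card ι = (if inertia hmax = 1 then 3 else 1) ∧ Nonempty (Signs M B ι) := by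
  classical
  obtain ⟨he, hk, hlB⟩ := main hM hmax hV
  have hb : IsPair 2 M b := hmax.1.1
  haveI : Fact (Nat.Prime 2) := ⟨Nat.prime_two⟩
  haveI : Fintype ↥(b.1 : Subgroup G) := Fintype.ofFinite _
  obtain ⟨u0, hu0, hu01, -⟩ := exists_ne hV (1 : G)
  choose A hA using fun u : ↥(b.1 : Subgroup G) => BrauerPairs.exists_pairLE hM hb
    (Subgroup.zpowers_le.2 u.2 : Subgroup.zpowers (u : G) ≤ b.1)
  haveI : ∀ u, Fintype (Subgroup.centralizer ((A u).1 : Set G)) := fun u => Fintype.ofFinite _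
  let S : Finset ↥(b.1 : Subgroup G) :=
    if inertia hmax = 1 then Finset.univ.filter (fun u : ↥(b.1 : Subgroup G) => (u : G) ≠ 1)
      else {⟨u0, hu0⟩}
  have hS1 : ∀ u : ↥S, ((u : ↥(b.1 : Subgroup G)) : G) ≠ 1 := by
    rintro ⟨u, hu⟩
    by_cases h : inertia hmax = 1
    · simp only [S, if_pos h] at hu
      exact (Finset.mem_filter.1 hu).2
    · simp only [S, if_neg h, Finset.mem_singleton] at hu
      subst hu
      exact hu01
  have hScard : S.card = if inertia hmax = 1 then 3 else 1 := by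
    by_cases h : inertia hmax = 1
    · simp only [S, if_pos h]
      exact card_filter_ne_one hV
    · simp only [S, if_neg h]
      exact Finset.card_singleton _
  have hord : ∀ u : ↥S, orderOf ((u : ↥(b.1 : Subgroup G)) : G) = 2 := fun u =>
    orderOf_eq_two hV u.1.2 (hS1 u)
  have hind : ∀ u : ↥S, IsInducedBlock M (Subgroup.centralizer ((A u).1 : Set G)) (A u).2 B :=
    fun u => Star.isInducedBlock_of_isBrauerPairOf hM (isBrauerPairOf_below hM hmax (hA u).2)
  have hd : ∀ u : ↥S, blockDefect 2 (A u).2 = 2 := fun u =>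
    (blockDefect_below hM hmax hV (hA u).2).trans (blockDefect_eq_of_card hM hmax.1.2.1
      (BrauerPairs.isDefectGroup_of_isMaximal hM hmax) hV.card_four)
  choose ψ hψ δ hsign hδ using fun u : ↥S => exists_sign hM (hord u) (hA u).1 (hind u) (hd u)
    (blockDefect_below hM hmax hV (hA u).2) (rank_local hM hmax hV u.1.2 (hS1 u) (hA u).1 (hA u).2)
    hk
  have hne : ∀ u v : ↥S, u ≠ v → ∀ g : G, conjPair g (A u) ≠ A v := by
    intro u v huv g hg
    have h1 : inertia hmax = 1 := by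
      by_contra h
      refine huv (Subtype.ext ?_)
      have hu := u.2
      have hv := v.2
      simp only [S, if_neg h, Finset.mem_singleton] at hu hv
      rw [hu, hv]
    have hF := BrauerPairs.isBlockFusionSystemOn_blockSystem hM hmax
    have hnil : IsNilpotentBlock 2 M B := by
      rw [BrauerPairs.isNilpotentBlock_iff_of_comm hM hmax (comm hV)]
      intro x hxN hst
      exact Subgroup.relIndex_eq_one.1 h1 ((BrauerPairs.mem_pairStab_iff_stabilizesBlock hb.2).2
        ⟨hxN, hst⟩)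
    have hmem : conjHom (Subgroup.zpowers ((u : ↥(b.1 : Subgroup G)) : G)) g ∈
        (BrauerPairs.blockSystem hM hb).Hom _ :=
      (BrauerPairs.mem_hom_iff hF).2 ⟨A u, (hA u).1, (hA u).2, g, fun _ => rfl,
        hg ▸ (hA v).2⟩
    rw [(BrauerPairs.isNilpotentBlock_iff_inner hM hF).1 hnil] at hmem
    obtain ⟨-, q, hq, hqy⟩ := hmem
    have h2 : g * ((u : ↥(b.1 : Subgroup G)) : G) * g⁻¹ = q * ((u : ↥(b.1 : Subgroup G)) : G) * q⁻¹ :=
      hqy ⟨_, Subgroup.mem_zpowers _⟩
    rw [comm hV q hq _ u.1.2, mul_inv_cancel_right] at h2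
    have h3 := congrArg Sigma.fst hg
    rw [(hA v).1, conjPair_fst_zpowers (hA u).1, h2] at h3
    have hvu : ((v : ↥(b.1 : Subgroup G)) : G) ∈ Subgroup.zpowers ((u : ↥(b.1 : Subgroup G)) : G) :=
      h3 ▸ Subgroup.mem_zpowers _
    obtain ⟨n, hn⟩ := Subgroup.mem_zpowers_iff.1 hvu
    refine huv (Subtype.ext (Subtype.ext ?_))
    rcases Int.even_or_odd n with ⟨m, rfl⟩ | ⟨m, rfl⟩
    · rw [← two_mul, zpow_mul, zpow_two, mul_self hV u.1.2, one_zpow] at hn
      exact absurd hn.symm (hS1 v)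
    · rwa [zpow_add, zpow_mul, zpow_two, mul_self hV u.1.2, one_zpow, one_mul, zpow_one] at hn
  have hprops := fun (u : ↥S) (x : G) =>
    signed_sum_props hM (hord u) (hA u).1 (hind u) (hd u) (hδ u) x
  have horth : ∀ u v : ↥S, u ≠ v → ∑ χ ∈ bfin B, δ u χ * δ v χ = 0 := fun u v huv =>
    sign_orth hM (hord u) (hord v) (hA u).1 (hA v).1 (hind u) (hind v) (hne u v huv) (hδ u) (hδ v)
  refine ⟨↥S, inferInstance, by rw [Fintype.card_coe, hScard],
    ⟨⟨δ, hsign, horth, fun u x => (hprops u x).1, fun x hx χ hχ =>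
      singular_eq hM hmax.1.2.1 hk ?_ δ hsign horth (fun u x => (hprops u x).1) hx hχ,
      fun u x => (hprops u x).2.1, fun u x => (hprops u x).2.2⟩⟩⟩
  rw [Fintype.card_coe, hScard, hlB]
  rcases he with h | h <;> simp [h]

end Cfsg.Agent.Lib.KleinBlock
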