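import Cfsg.Agent.Lib.KleinBlock.Columns
import Cfsg.Prelude.Def_BlockLocal
import Mathlib

/-!
# Perfect isometries between blocks with the same sign columns
-/

set_option autoImplicit false

namespace Cfsg.Agent.Lib.KleinBlock

open Cfsg
open Cfsg.Agent.Lib

universe u

variable {G H : Type u} [Group G] [Fintype G] [Group H] [Fintype H] {M : Ideal AlgInt} [M.IsPrime]
  {B : Set (IrrCharacter G)} {c : Set (IrrCharacter H)}
  {ι κ : Type u} [Fintype ι] [Fintype κ]

omit [M.IsPrime] in
/-- With three orthogonal sign columns the pattern of a row determines it. -/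
theorem eq_of_same_pattern (S : Signs M B ι) (hι : Fintype.card ι = 3) (hk : Nat.card B = 4)
    {χ φ : IrrCharacter G} (hχ : χ ∈ B) (hφ : φ ∈ B) (i0 : ι)
    (h : ∀ i, S.δ i χ * S.δ i0 χ = S.δ i φ * S.δ i0 φ) : χ = φ := by
  classical
  by_contra hne
  have hsq : ∀ i, ∀ θ ∈ B, S.δ i θ * S.δ i θ = 1 := fun i θ hθ => by
    rcases S.sign i θ hθ with h | h <;> simp [h]
  have hprop : ∀ i, S.δ i φ = (S.δ i0 φ * S.δ i0 χ) * S.δ i χ := fun i => by
    linear_combination (S.δ i0 φ) * (h i).symm - (S.δ i φ) * (hsq i0 φ hφ)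
  let z : IrrCharacter G → ℤ := fun θ => ∑ i, S.δ i χ * S.δ i θ
  have hzsum : ∑ θ ∈ bfin B, z θ * z θ = 12 := by
    have hdot : ∀ i j, ∑ θ ∈ bfin B, S.δ i θ * S.δ j θ = if i = j then 4 else 0 := fun i j => by
      split_ifs with hij
      · subst hij
        rw [Finset.sum_congr rfl fun θ hθ => hsq i θ (mem_bfin.1 hθ), Finset.sum_const, card_bfin,
          hk]
        rfl
      · exact S.orth i j hij
    simp only [z, Finset.sum_mul_sum]
    rw [Finset.sum_comm]
    rw [Finset.sum_congr rfl (g := fun _ => (4 : ℤ)) fun i _ => ?_]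
    · rw [Finset.sum_const, Finset.card_univ, hι]
      rfl
    rw [Finset.sum_comm, Finset.sum_congr rfl (g := fun j =>
      S.δ i χ * S.δ j χ * if i = j then 4 else 0) fun j _ => ?_]
    · simp only [mul_ite, mul_zero, Finset.sum_ite_eq, Finset.mem_univ, if_true]
      rw [hsq i χ hχ, one_mul]
    · rw [← hdot i j, Finset.mul_sum]
      exact Finset.sum_congr rfl fun θ _ => by ring
  have hzχ : z χ = 3 := by
    simp only [z, hsq _ χ hχ, Finset.sum_const, Finset.card_univ, hι]
    rfl
  have hzφ : z φ * z φ = 9 := by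
    have : z φ = (S.δ i0 φ * S.δ i0 χ) * z χ := by
      simp only [z, Finset.mul_sum]
      exact Finset.sum_congr rfl fun i _ => by rw [hprop i]; ring
    rw [this, hzχ]
    linear_combination (9 * (S.δ i0 χ * S.δ i0 χ)) * hsq i0 φ hφ + 9 * hsq i0 χ hχ
  have hle : z χ * z χ + z φ * z φ ≤ ∑ θ ∈ bfin B, z θ * z θ := by
    rw [← Finset.sum_pair (f := fun θ => z θ * z θ) hne]
    refine Finset.sum_le_sum_of_subset_of_nonneg ?_ fun θ _ _ => mul_self_nonneg _
    simp [Finset.insert_subset_iff, mem_bfin, hχ, hφ]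
  rw [hzsum, hzχ, hzφ] at hle
  norm_num at hle

omit [M.IsPrime] in
/-- A matching of the rows. -/
theorem exists_matching (S : Signs M B ι) (T : Signs M c κ) (f : κ ≃ ι)
    (hι : Fintype.card ι = 1 ∨ Fintype.card ι = 3) (hkB : Nat.card B = 4) (hkc : Nat.card c = 4) :
    ∃ (σ : IrrCharacter H → IrrCharacter G) (ε : IrrCharacter H → ℤ), Set.BijOn σ c B ∧
      (∀ η ∈ c, ε η = 1 ∨ ε η = -1) ∧ ∀ η ∈ c, ∀ j, ε η * S.δ (f j) (σ η) = T.δ j η := by
  classical
  haveI : Nonempty κ := Fintype.card_pos_iff.1 (by rw [Fintype.card_congr f]; omega)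
  obtain ⟨j0⟩ := ‹Nonempty κ›
  obtain ⟨χ0, hχ0⟩ : B.Nonempty := by
    rw [Set.nonempty_iff_ne_empty]
    intro h
    rw [h, Nat.card_coe_set_eq, Set.ncard_empty] at hkB
    omega
  -- a bijection respecting the patterns
  obtain ⟨e, he⟩ : ∃ e : c ≃ B, ∀ (η : c) (j : κ),
      S.δ (f j) (e η) * S.δ (f j0) (e η) = T.δ j η * T.δ j0 η := by
    rcases hι with hι | hι
    · haveI : Subsingleton κ :=
        Fintype.card_le_one_iff_subsingleton.1 (by rw [Fintype.card_congr f, hι])
      obtain ⟨e⟩ : Nonempty (c ≃ B) := ⟨(Nat.equivFinOfCardPos (by omega : Nat.card c ≠ 0)).trans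
        ((finCongr (hkc.trans hkB.symm)).trans (Nat.equivFinOfCardPos (by omega : Nat.card B ≠ 0)).symm)⟩
      refine ⟨e, fun η j => ?_⟩
      rw [Subsingleton.elim j j0]
      rcases S.sign (f j0) _ (e η).2 with h | h <;> rcases T.sign j0 _ η.2 with h' | h' <;>
        simp [h, h']
    · have hκ : Fintype.card {j : κ // j ≠ j0} = 2 := by
        rw [Fintype.card_subtype_compl, Fintype.card_subtype_eq, Fintype.card_congr f, hι]
      let ρS : B → ({j : κ // j ≠ j0} → Bool) := fun χ j =>
        decide (S.δ (f j) χ = S.δ (f j0) χ)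
      let ρT : c → ({j : κ // j ≠ j0} → Bool) := fun η j => decide (T.δ j η = T.δ j0 η)
      have key : ∀ (a b a' b' : ℤ), (a = 1 ∨ a = -1) → (b = 1 ∨ b = -1) → (a' = 1 ∨ a' = -1) →
          (b' = 1 ∨ b' = -1) → decide (a = b) = decide (a' = b') → a * b = a' * b' := by
        intro a b a' b' ha hb ha' hb'
        rcases ha with rfl | rfl <;> rcases hb with rfl | rfl <;> rcases ha' with rfl | rfl <;>
          rcases hb' with rfl | rfl <;> simp
      have hSi : Function.Injective ρS := by
        intro χ φ h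
        refine Subtype.ext (eq_of_same_pattern S hι hkB χ.2 φ.2 (f j0) fun i => ?_)
        obtain ⟨j, rfl⟩ := f.surjective i
        by_cases hj : j = j0
        · subst hj
          rcases S.sign (f j) _ χ.2 with h1 | h1 <;> rcases S.sign (f j) _ φ.2 with h2 | h2 <;>
            simp [h1, h2]
        · exact key _ _ _ _ (S.sign _ _ χ.2) (S.sign _ _ χ.2) (S.sign _ _ φ.2) (S.sign _ _ φ.2)
            (congrFun h ⟨j, hj⟩)
      have hTi : Function.Injective ρT := by
        intro χ φ h
        refine Subtype.ext (eq_of_same_pattern T (by rw [Fintype.card_congr f, hι]) hkc χ.2 φ.2 j0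
          fun j => ?_)
        by_cases hj : j = j0
        · subst hj
          rcases T.sign j _ χ.2 with h1 | h1 <;> rcases T.sign j _ φ.2 with h2 | h2 <;>
            simp [h1, h2]
        · exact key _ _ _ _ (T.sign _ _ χ.2) (T.sign _ _ χ.2) (T.sign _ _ φ.2) (T.sign _ _ φ.2)
            (congrFun h ⟨j, hj⟩)
      haveI : Fintype B := Fintype.ofFinite _
      haveI : Fintype c := Fintype.ofFinite _
      have hcard : Fintype.card ({j : κ // j ≠ j0} → Bool) = 4 := by
        rw [Fintype.card_fun, Fintype.card_bool, hκ]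
        rfl
      have hSb : Function.Bijective ρS := (Fintype.bijective_iff_injective_and_card _).2
        ⟨hSi, by rw [hcard, ← Nat.card_eq_fintype_card, hkB]⟩
      have hTb : Function.Bijective ρT := (Fintype.bijective_iff_injective_and_card _).2
        ⟨hTi, by rw [hcard, ← Nat.card_eq_fintype_card, hkc]⟩
      refine ⟨(Equiv.ofBijective ρT hTb).trans (Equiv.ofBijective ρS hSb).symm, fun η j => ?_⟩
      set χ := (Equiv.ofBijective ρS hSb).symm (ρT η) with hχdef
      have hχ : ρS χ = ρT η := (Equiv.ofBijective ρS hSb).apply_symm_apply (ρT η)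
      show S.δ (f j) χ * S.δ (f j0) χ = _
      by_cases hj : j = j0
      · subst hj
        rcases S.sign (f j) _ χ.2 with h1 | h1 <;> rcases T.sign j _ η.2 with h2 | h2 <;>
          simp [h1, h2]
      · exact key _ _ _ _ (S.sign _ _ χ.2) (S.sign _ _ χ.2) (T.sign _ _ η.2) (T.sign _ _ η.2)
          (congrFun hχ ⟨j, hj⟩)
  refine ⟨fun η => if h : η ∈ c then (e ⟨η, h⟩ : IrrCharacter G) else χ0,
    fun η => if h : η ∈ c then S.δ (f j0) (e ⟨η, h⟩) * T.δ j0 η else 1, ?_, ?_, ?_⟩
  · refine ⟨fun η hη => ?_, fun η hη θ hθ h => ?_, fun χ hχ => ⟨e.symm ⟨χ, hχ⟩, (e.symm _).2, ?_⟩⟩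
    · simp only [dif_pos hη]
      exact (e _).2
    · simp only [dif_pos hη, dif_pos hθ] at h
      exact congrArg Subtype.val (e.injective (Subtype.ext h))
    · simp only [dif_pos (e.symm ⟨χ, hχ⟩).2, Subtype.coe_eta, Equiv.apply_symm_apply]
  · intro η hη
    simp only [dif_pos hη]
    rcases S.sign (f j0) _ (e ⟨η, hη⟩).2 with h | h <;> rcases T.sign j0 η hη with h' | h' <;>
      simp [h, h']
  · intro η hη j
    simp only [dif_pos hη]
    have h := he ⟨η, hη⟩ j
    rcases S.sign (f j0) _ (e ⟨η, hη⟩).2 with h1 | h1 <;> rcases T.sign j0 η hη with h2 | h2 <;>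
      simp only [h1, h2] at h ⊢ <;> linarith

/-- Blocks with matching sign systems are perfectly isometric. -/
theorem exists_perfect (hM : IsPModular 2 M) (S : Signs M B ι) (T : Signs M c κ)
    (hcard : Fintype.card κ = Fintype.card ι) (hι : Fintype.card ι = 1 ∨ Fintype.card ι = 3)
    (hkB : Nat.card B = 4) (hkc : Nat.card c = 4) :
    ∃ (I : IrrCharacter H → IrrCharacter G) (ε : IrrCharacter H → ℤ),
      IsPerfectIsometry 2 M c B I ε := by
  classical
  haveI : Fact (Nat.Prime 2) := ⟨Nat.prime_two⟩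
  let f := Fintype.equivOfCardEq hcard
  obtain ⟨σ, ε, hσ, hε, hmatch⟩ := exists_matching S T f hι hkB hkc
  refine ⟨σ, ε, hσ, hε, ?_⟩
  have hμ : ∀ x y, signedBijectionKernel c σ ε x y =
      ∑ η ∈ bfin c, (ε η : ℂ) * (σ η : G → ℂ) x * (η : H → ℂ) y := fun x y =>
    finsum_mem_eq_finite_toFinset_sum _ c.toFinite
  let Ψ : ι → G → ℂ := fun i x => ∑ χ ∈ bfin B, (S.δ i χ : ℂ) * (χ : G → ℂ) x
  let Φ : κ → H → ℂ := fun j y => ∑ η ∈ bfin c, (T.δ j η : ℂ) * (η : H → ℂ) y
  have hre : ∀ F : IrrCharacter G → ℂ,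
      ∑ η ∈ bfin c, F (σ η) = ∑ χ ∈ bfin B, F χ := fun F => by
    refine Finset.sum_nbij σ (fun η hη => mem_bfin.2 (hσ.mapsTo (mem_bfin.1 hη)))
      (fun η hη θ hθ h => hσ.injOn (mem_bfin.1 hη) (mem_bfin.1 hθ) h) (fun χ hχ => ?_)
      fun η _ => rfl
    obtain ⟨η, hη, h⟩ := hσ.surjOn (mem_bfin.1 hχ)
    exact ⟨η, mem_bfin.2 hη, h⟩
  have hδ : ∀ η ∈ bfin c, ∀ j, (T.δ j η : ℂ) = (ε η : ℂ) * (S.δ (f j) (σ η) : ℂ) := fun η hη j => by
    rw [← hmatch η (mem_bfin.1 hη) j]
    push_cast
    ring
  have hright : ∀ x y, 2 ∣ orderOf y →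
      4 * signedBijectionKernel c σ ε x y = ∑ j, Φ j y * Ψ (f j) x := fun x y hy => by
    rw [hμ, Finset.mul_sum]
    simp only [Ψ]
    simp only [← hre, Finset.mul_sum]
    rw [Finset.sum_comm]
    refine Finset.sum_congr rfl fun η hη => ?_
    rw [show 4 * ((ε η : ℂ) * (σ η : G → ℂ) x * (η : H → ℂ) y) =
      (ε η : ℂ) * (σ η : G → ℂ) x * (4 * (η : H → ℂ) y) by ring,
      T.singular y hy η (mem_bfin.1 hη), Finset.mul_sum]
    refine Finset.sum_congr rfl fun j _ => ?_
    rw [hδ η hη j]
    have hsq : (ε η : ℂ) * (ε η : ℂ) = 1 := by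
      rcases hε η (mem_bfin.1 hη) with h | h <;> simp [h]
    linear_combination ((σ η : G → ℂ) x * (S.δ (f j) (σ η) : ℂ) * Φ j y) * hsq
  have hleft : ∀ x y, 2 ∣ orderOf x →
      4 * signedBijectionKernel c σ ε x y = ∑ j, Φ j y * Ψ (f j) x := fun x y hx => by
    rw [hμ, Finset.mul_sum]
    simp only [Φ, Finset.sum_mul]
    rw [Finset.sum_comm]
    refine Finset.sum_congr rfl fun η hη => ?_
    rw [show 4 * ((ε η : ℂ) * (σ η : G → ℂ) x * (η : H → ℂ) y) =
      (ε η : ℂ) * (η : H → ℂ) y * (4 * (σ η : G → ℂ) x) by ring,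
      S.singular x hx (σ η) (hσ.mapsTo (mem_bfin.1 hη)), Finset.mul_sum, ← Equiv.sum_comp f]
    refine Finset.sum_congr rfl fun j _ => ?_
    rw [hδ η hη j]
    ring
  have hzero : ∀ x y, ¬ (¬ 2 ∣ orderOf x ↔ ¬ 2 ∣ orderOf y) →
      signedBijectionKernel c σ ε x y = 0 := by
    intro x y hne
    refine (mul_eq_zero.1 ?_).resolve_left (by norm_num : (4 : ℂ) ≠ 0)
    by_cases hx : 2 ∣ orderOf x
    · have hy : ¬ 2 ∣ orderOf y := fun h => hne (iff_of_false (not_not.2 hx) (not_not.2 h))
      rw [hleft x y hx]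
      exact Finset.sum_eq_zero fun j _ => mul_eq_zero_of_left (T.regular j y hy) _
    · have hy : 2 ∣ orderOf y := by
        by_contra h
        exact hne (iff_of_true hx h)
      rw [hright x y hy]
      exact Finset.sum_eq_zero fun j _ => mul_eq_zero_of_right _ (S.regular (f j) x hx)
  intro x y
  by_cases hne : ¬ (¬ 2 ∣ orderOf x ↔ ¬ 2 ∣ orderOf y)
  · have h0 := hzero x y hne
    rw [h0, zero_div, zero_div]
    exact ⟨Blocks.mem_localRing.1 (Subring.zero_mem _), Blocks.mem_localRing.1 (Subring.zero_mem _),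
      Or.inr rfl⟩
  rw [not_not] at hne
  refine ⟨?_, ?_, Or.inl hne⟩
  · by_cases hx : 2 ∣ orderOf x
    · have e : signedBijectionKernel c σ ε x y /
          (Nat.card (Subgroup.centralizer ({x} : Set G)) : ℂ) =
          ∑ j, Φ j y / 4 * (Ψ (f j) x / (Nat.card (Subgroup.centralizer ({x} : Set G)) : ℂ)) := by
        rw [← mul_div_cancel_left₀ (signedBijectionKernel c σ ε x y) (by norm_num : (4 : ℂ) ≠ 0),
          hleft x y hx, Finset.sum_div, Finset.sum_div]
        exact Finset.sum_congr rfl fun j _ => by ring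
      rw [e]
      exact Blocks.mem_localRing.1 (Subring.sum_mem _ fun j _ =>
        mul_mem (Blocks.mem_localRing.2 (T.div_four j y))
          (Blocks.mem_localRing.2 (S.div_centralizer (f j) x)))
    · let a : IrrCharacter G → ℂ := fun χ =>
        ∑ η ∈ bfin c, if σ η = χ then (ε η : ℂ) * (η : H → ℂ) y else 0
      have ha : ∀ g : G, ∑ χ : IrrCharacter G, a χ * (χ : G → ℂ) g =
          signedBijectionKernel c σ ε g y := fun g => by
        simp only [a, Finset.sum_mul, ite_mul, zero_mul]
        rw [Finset.sum_comm, hμ]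
        refine Finset.sum_congr rfl fun η _ => ?_
        rw [Finset.sum_ite_eq, if_pos (Finset.mem_univ _)]
        ring
      have := memLocalRing_div_centralizer hM a (fun χ => Blocks.mem_localRing.1
        (Subring.sum_mem _ fun η _ => by
          split_ifs
          · exact mul_mem (Blocks.intCast_mem_localRing _)
              (Blocks.isIntegral_mem_localRing (Chars.irr_isIntegral η _))
          · exact Subring.zero_mem _))
        (fun g hg => by
          rw [ha]
          exact hzero g y fun h => (hne.1 hx) ((not_iff_not.1 h).1 hg)) hx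
      rwa [ha] at this
  · by_cases hy : 2 ∣ orderOf y
    · have e : signedBijectionKernel c σ ε x y /
          (Nat.card (Subgroup.centralizer ({y} : Set H)) : ℂ) =
          ∑ j, Ψ (f j) x / 4 * (Φ j y / (Nat.card (Subgroup.centralizer ({y} : Set H)) : ℂ)) := by
        rw [← mul_div_cancel_left₀ (signedBijectionKernel c σ ε x y) (by norm_num : (4 : ℂ) ≠ 0),
          hright x y hy, Finset.sum_div, Finset.sum_div]
        exact Finset.sum_congr rfl fun j _ => by ring
      rw [e]
      exact Blocks.mem_localRing.1 (Subring.sum_mem _ fun j _ =>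
        mul_mem (Blocks.mem_localRing.2 (S.div_four (f j) x))
          (Blocks.mem_localRing.2 (T.div_centralizer j y)))
    · let a : IrrCharacter H → ℂ := fun η =>
        if η ∈ bfin c then (ε η : ℂ) * (σ η : G → ℂ) x else 0
      have ha : ∀ g : H, ∑ η : IrrCharacter H, a η * (η : H → ℂ) g =
          signedBijectionKernel c σ ε x g := fun g => by
        simp only [a, ite_mul, zero_mul, hμ]
        rw [Finset.sum_ite_mem, Finset.univ_inter]
      have := memLocalRing_div_centralizer hM a (fun η => Blocks.mem_localRing.1 (by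
          simp only [a]
          split_ifs
          · exact mul_mem (Blocks.intCast_mem_localRing _)
              (Blocks.isIntegral_mem_localRing (Chars.irr_isIntegral (σ η) _))
          · exact Subring.zero_mem _))
        (fun g hg => by
          rw [ha]
          exact hzero x g fun h => (hne.2 hy) ((not_iff_not.1 h).2 hg)) hy
      rwa [ha] at this

variable {P : Subgroup G}

/-- The perfect isometry with the correspondent in the normalizer. -/
theorem exists_perfect_normalizer (hM : IsPModular 2 M) (hB : IsPBlock M B)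
    (hPD : IsDefectGroup 2 M B P) (hV : IsKleinFour P)
    {c : Set (IrrCharacter (Subgroup.normalizer (P : Set G)))}
    (hcD : IsDefectGroup 2 M c (P.subgroupOf (Subgroup.normalizer (P : Set G))))
    (hc : IsInducedBlock M (Subgroup.normalizer (P : Set G)) c B) :
    ∃ (I : IrrCharacter (Subgroup.normalizer (P : Set G)) → IrrCharacter G)
      (ε : IrrCharacter (Subgroup.normalizer (P : Set G)) → ℤ),
      IsPerfectIsometry 2 M c B I ε := by
  classical
  haveI : Fact (Nat.Prime 2) := ⟨Nat.prime_two⟩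
  haveI : Fintype (Subgroup.normalizer (P : Set G)) := Fintype.ofFinite _
  have hPN : P ≤ Subgroup.normalizer (P : Set G) := Subgroup.le_normalizer
  have hCN : Subgroup.centralizer (P : Set G) ≤ Subgroup.normalizer (P : Set G) :=
    Subgroup.centralizer_le_normalizer _
  have hQ := Subgroup.map_subgroupOf_eq_of_le hPN
  obtain ⟨c0, hc0⟩ := BrauerPairs.KernelCore.exists_pair_at_defectGroup hM hc.1 hcD
  have hmaxc := BrauerPairs.KernelCore.isMaximal_of_defectGroup hM
    (a := (⟨_, c0⟩ : BrauerPairIdx (Subgroup.normalizer (P : Set G)))) hc0 hcD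
  have hpair := BrauerPairs.KernelCore.isBrauerPairOf_push hQ hCN hM hc hc0
  have hmaxB := BrauerPairs.KernelCore.isMaximal_of_defectGroup hM
    (a := BrauerPairs.KernelCore.pushPair hQ hCN c0) hpair hPD
  have hVc : IsKleinFour ↥(P.subgroupOf (Subgroup.normalizer (P : Set G))) :=
    ⟨(Nat.card_congr (Subgroup.subgroupOfEquivOfLe hPN).toEquiv).trans hV.card_four,
      (Monoid.exponent_eq_of_mulEquiv (Subgroup.subgroupOfEquivOfLe hPN)).trans hV.exponent_two⟩
  have hmc := main hM (b := (⟨_, c0⟩ : BrauerPairIdx (Subgroup.normalizer (P : Set G)))) hmaxc hVc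
  have hmB := main hM (b := BrauerPairs.KernelCore.pushPair hQ hCN c0) hmaxB hV
  have hinertia : inertia hmaxB = inertia (b := (⟨_, c0⟩ :
      BrauerPairIdx (Subgroup.normalizer (P : Set G)))) hmaxc := by
    set a : BrauerPairIdx G := BrauerPairs.KernelCore.pushPair hQ hCN c0 with ha
    set a' : BrauerPairIdx (Subgroup.normalizer (P : Set G)) := ⟨_, c0⟩ with ha'
    have haB : IsPBlock M a.2 := hmaxB.1.1.2
    have hac : IsPBlock M a'.2 := hmaxc.1.1.2
    have hcoeff : ∀ n : Subgroup.normalizer (P : Set G),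
        BrauerPairs.coeffFun a (n : G) = BrauerPairs.coeffFun a' n := by
      intro n
      by_cases hn : (n : G) ∈ Subgroup.centralizer (P : Set G)
      · have hn' := (BrauerPairs.KernelCore.centEquivSub hQ hCN ⟨(n : G), hn⟩).2
        have e1 : BrauerPairs.coeffFun a (n : G) = blockCoeff a.2 ⟨(n : G), hn⟩ :=
          BrauerMap.subgroupBlockCoeff_of_mem (Subgroup.centralizer (P : Set G)) a.2 ⟨(n : G), hn⟩
        have e2 : BrauerPairs.coeffFun a' n = blockCoeff a'.2
            (BrauerPairs.KernelCore.centEquivSub hQ hCN ⟨(n : G), hn⟩) :=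
          BrauerMap.subgroupBlockCoeff_of_mem _ a'.2
            (BrauerPairs.KernelCore.centEquivSub hQ hCN ⟨(n : G), hn⟩)
        rw [e1, e2]
        exact BrauerMap.blockCoeff_image_irrCongr _ _ _
      · rw [BrauerPairs.coeffFun_of_notMem (a := a) hn,
          BrauerPairs.coeffFun_of_notMem (a := a') fun h => hn ?_]
        exact ((BrauerPairs.KernelCore.centEquivSub hQ hCN).symm ⟨n, h⟩).2
    have hle : BrauerPairs.pairStab haB ≤ Subgroup.normalizer (P : Set G) :=
      fun x hx => ((BrauerPairs.mem_pairStab_iff haB).1 hx).1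
    have hstab : BrauerPairs.pairStab hac = (BrauerPairs.pairStab haB).subgroupOf (Subgroup.normalizer (P : Set G)) := by
      ext x
      rw [Subgroup.mem_subgroupOf, BrauerPairs.mem_pairStab_iff, BrauerPairs.mem_pairStab_iff]
      refine and_congr ⟨fun _ => x.2, fun _ => ?_⟩ ⟨fun h g => ?_, fun h n => ?_⟩
      · exact (Subgroup.normal_subgroupOf_iff_le_normalizer hPN).2 le_rfl |>.conj_mem |> fun h =>
          Subgroup.mem_normalizer_iff.2 fun y => ⟨fun hy => h y hy x, fun hy => by
            have := h _ hy x⁻¹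
            simpa [mul_assoc] using this⟩
      · by_cases hg : g ∈ Subgroup.normalizer (P : Set G)
        · have h1 := h ⟨g, hg⟩
          rw [← hcoeff, ← hcoeff] at h1
          exact h1
        · rw [BrauerPairs.coeffFun_of_notMem (a := a) fun h' => hg ?_,
            BrauerPairs.coeffFun_of_notMem (a := a) fun h' => hg (hCN h')]
          have := mul_mem (mul_mem x.2 (hCN h')) (inv_mem x.2)
          simpa [mul_assoc] using this
      · rw [← hcoeff, ← hcoeff]
        exact h n
    have hcent : Subgroup.centralizer (a'.1 : Set (Subgroup.normalizer (P : Set G))) =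
        (Subgroup.centralizer (P : Set G)).subgroupOf (Subgroup.normalizer (P : Set G)) := by
      ext x
      constructor
      · intro h
        exact ((BrauerPairs.KernelCore.centEquivSub hQ hCN).symm ⟨x, h⟩).2
      · intro h
        exact (BrauerPairs.KernelCore.centEquivSub hQ hCN ⟨(x : G), h⟩).2
    show (Subgroup.centralizer (a.1 : Set G)).relIndex (BrauerPairs.pairStab haB) =
      (Subgroup.centralizer (a'.1 : Set (Subgroup.normalizer (P : Set G)))).relIndex (BrauerPairs.pairStab hac)
    rw [hcent, hstab, Subgroup.relIndex_subgroupOf hle]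
    rfl
  obtain ⟨ι, hι, hιc, ⟨S⟩⟩ := exists_signs hM (b := BrauerPairs.KernelCore.pushPair hQ hCN c0) hmaxB hV
  obtain ⟨κ, hκ, hκc, ⟨T⟩⟩ := exists_signs hM
    (b := (⟨_, c0⟩ : BrauerPairIdx (Subgroup.normalizer (P : Set G)))) hmaxc hVc
  rw [← hinertia] at hκc
  exact exists_perfect hM S T (hκc.trans hιc.symm)
    (by rw [hιc]; rcases hmB.1 with h | h <;> simp [h]) hmB.2.1 hmc.2.1

end Cfsg.Agent.Lib.KleinBlock
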