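import Cfsg.Agent.Lib.BrauerFeit.RegGen
import Cfsg.Agent.Lib.BrauerFeit.Bounds
import Cfsg.Agent.Lib.Blocks.CentralKernel
import Cfsg.Agent.Lib.Blocks.PPart
import Mathlib

/-!
# Functions vanishing on the singular elements are divisible by centralizer orders
-/

set_option autoImplicit false

namespace Cfsg.Agent.Lib.KleinBlock

open Cfsg
open Cfsg.Agent.Lib
open Cfsg.Agent.Lib.Blocks (localRing mem_localRing natCast_mem_localRing isIntegral_mem_localRing)

universe u

variable {K : Type u} [Group K] [Fintype K] {p : ℕ} [Fact p.Prime] {M : Ideal AlgInt} [M.IsPrime]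

/-- A combination of characters with local coefficients that vanishes on the singular elements
is divisible at a regular element by the order of the centralizer. -/
theorem memLocalRing_div_centralizer (hM : IsPModular p M) (a : IrrCharacter K → ℂ)
    (ha : ∀ χ, MemLocalRing M (a χ))
    (h0 : ∀ g : K, p ∣ orderOf g → ∑ χ : IrrCharacter K, a χ * (χ : K → ℂ) g = 0) {x : K}
    (hx : ¬ p ∣ orderOf x) :
    MemLocalRing M ((∑ χ : IrrCharacter K, a χ * (χ : K → ℂ) x) /
      (Nat.card (Subgroup.centralizer ({x} : Set K)) : ℂ)) := by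
  classical
  set H := Subgroup.centralizer ({x} : Set K) with hH
  haveI : Fintype H := Fintype.ofFinite H
  obtain ⟨Q⟩ : Nonempty (Sylow p H) := inferInstance
  haveI : Fintype (Q : Subgroup H) := Fintype.ofFinite _
  -- the sum over the Sylow subgroup
  have key : ∀ χ : IrrCharacter K,
      (∑ q : (Q : Subgroup H), (χ : K → ℂ) (x * ((q : H) : K))) / (Nat.card (Q : Subgroup H) : ℂ)
        ∈ localRing M := by
    intro χ
    set r : H → ℂ := fun h => (χ : K → ℂ) (h : K) with hr
    have hrc : IsCharacter H r := Chars.isCharacter_restrict H (Chars.irr_isCharacter χ)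
    have hxc : (⟨x, Subgroup.mem_centralizer_singleton_iff.2 rfl⟩ : H) ∈ Subgroup.center H :=
      Subgroup.mem_center_iff.2 fun h => Subtype.ext (Subgroup.mem_centralizer_singleton_iff.1 h.2)
    set x' : H := ⟨x, Subgroup.mem_centralizer_singleton_iff.2 rfl⟩ with hx'
    have hexp : ∀ q : (Q : Subgroup H), (χ : K → ℂ) (x * ((q : H) : K)) =
        ∑ η : IrrCharacter H, classInner r (η : H → ℂ) *
          ((η : H → ℂ) x' / (η : H → ℂ) 1 * (η : H → ℂ) q) := fun q => by
      have h1 := congrFun (Chars.isCharacter_eq_sum_classInner hrc) ((q : H) * x')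
      simp only [Finset.sum_apply, Pi.smul_apply, smul_eq_mul] at h1
      rw [show x * ((q : H) : K) = (((q : H) * x' : H) : K) from
        (congrArg Subtype.val (Subgroup.mem_center_iff.1 hxc (q : H))).symm]
      refine h1.trans (Finset.sum_congr rfl fun η _ => ?_)
      rw [Blocks.CentralKernel.irr_mul_central η hxc]
      ring
    simp only [hexp]
    rw [Finset.sum_comm, Finset.sum_div]
    refine Subring.sum_mem _ fun η _ => ?_
    rw [← Finset.mul_sum, ← Finset.mul_sum, mul_div_assoc, mul_div_assoc]
    obtain ⟨n, hn⟩ := Chars.isCharacter_classInner_nat hrc (Chars.irr_isCharacter η)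
    rw [hn]
    refine mul_mem (natCast_mem_localRing n) (mul_mem ?_ ?_)
    · refine isIntegral_mem_localRing ?_
      have hne := Chars.irr_apply_one_ne_zero η
      refine IsIntegral.of_pow (orderOf_pos x') ?_
      have hpow : ∀ j : ℕ, ((η : H → ℂ) x' / (η : H → ℂ) 1) ^ j =
          (η : H → ℂ) (x' ^ j) / (η : H → ℂ) 1 := by
        intro j
        induction j with
        | zero => simp [div_self hne]
        | succ j ih => rw [pow_succ, pow_succ, Blocks.CentralKernel.irr_mul_central η hxc, ih]; ring
      rw [hpow, pow_orderOf_eq_one, div_self hne]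
      exact isIntegral_one
    · obtain ⟨m, hm⟩ := Chars.isCharacter_classInner_nat
        (Chars.isCharacter_restrict (Q : Subgroup H) (Chars.irr_isCharacter η))
        (Chars.isCharacter_of_isIrrCharacter (Chars.isIrrCharacter_one (G := (Q : Subgroup H))))
      rw [show (∑ q : (Q : Subgroup H), (η : H → ℂ) q) / (Nat.card (Q : Subgroup H) : ℂ) = (m : ℂ) by
        rw [← hm, classInner]; simp [div_eq_inv_mul]]
      exact natCast_mem_localRing m
  have hsum : ∑ χ : IrrCharacter K, a χ * (χ : K → ℂ) x =
      ∑ χ : IrrCharacter K, a χ * ∑ q : (Q : Subgroup H), (χ : K → ℂ) (x * ((q : H) : K)) := by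
    simp only [Finset.mul_sum]
    conv_rhs => rw [Finset.sum_comm]
    rw [Finset.sum_eq_single (1 : (Q : Subgroup H))]
    · simp
    · intro q _ hq
      refine h0 _ ?_
      obtain ⟨k, hk⟩ := IsPGroup.iff_orderOf.1 Q.isPGroup' q
      have hqo : orderOf ((q : H) : K) = p ^ k := by rw [Subgroup.orderOf_coe, Subgroup.orderOf_coe, hk]
      have hk0 : k ≠ 0 := by
        rintro rfl
        rw [pow_zero, orderOf_eq_one_iff] at hk
        exact hq hk
      have hcom : Commute x ((q : H) : K) :=
        (Subgroup.mem_centralizer_singleton_iff.1 (q : H).2).symm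
      rw [hcom.orderOf_mul_eq_mul_orderOf_of_coprime (by
        rw [hqo]
        exact Nat.Coprime.pow_right _ ((Fact.out : p.Prime).coprime_iff_not_dvd.2 hx).symm), hqo]
      exact Dvd.dvd.mul_left (dvd_pow_self p hk0) _
    · intro h
      exact absurd (Finset.mem_univ _) h
  have hsplit : (Nat.card H : ℂ) = (Nat.card (Q : Subgroup H) : ℂ) * ((Q : Subgroup H).index : ℂ) := by
    rw [← Nat.cast_mul, Subgroup.card_mul_index]
  rw [hsum, hsplit, Finset.sum_div]
  refine mem_localRing.1 (Subring.sum_mem _ fun χ _ => ?_)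
  rw [mul_div_assoc, ← div_div]
  refine mul_mem (mem_localRing.2 (ha χ)) ?_
  rw [div_eq_mul_inv]
  refine mul_mem (key χ) ?_
  have := Blocks.natCast_div_mem_localRing hM (a := 1) (b := (Q : Subgroup H).index)
    Subgroup.index_ne_zero_of_finite
    (Or.inl (by rw [Nat.factorization_eq_zero_of_not_dvd Q.not_dvd_index]; exact Nat.zero_le _))
  simpa using this

end Cfsg.Agent.Lib.KleinBlock
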